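import Mathlib
import Cfsg.Agent.Lib.ClassSizeTop.Basic
import Cfsg.Agent.S0143

/-!
# Groups with three centralizer orders: elementary tools
-/

set_option autoImplicit false
set_option linter.style.haveILetI false

namespace Cfsg.Agent.Lib.ThreeCentralizers

open Subgroup Cfsg.Agent.Lib

universe u

variable {G : Type u} [Group G]

/-- The centralizer of an element. -/
abbrev cen (x : G) : Subgroup G := centralizer ({x} : Set G)

/-- An element of `p`-power order. -/
def El (p : ℕ) (x : G) : Prop := ∃ k : ℕ, orderOf x = p ^ k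

theorem mem_cen {x g : G} : g ∈ cen x ↔ g * x = x * g := mem_centralizer_singleton_iff

theorem self_mem_cen (x : G) : x ∈ cen x := mem_cen.mpr rfl

theorem mem_cen_comm {x g : G} : g ∈ cen x ↔ x ∈ cen g := by
  rw [mem_cen, mem_cen]; exact eq_comm

theorem cen_le_of_zpowers {x y : G} (h : y ∈ zpowers x) : cen x ≤ cen y :=
  ClassSizeTop.cent_le_cent_of_mem_zpowers h

theorem El.pow {p : ℕ} (hp : p.Prime) {x : G} (h : El p x) (n : ℕ) : El p (x ^ n) := by
  obtain ⟨k, hk⟩ := h
  obtain ⟨j, -, hj⟩ := (Nat.dvd_prime_pow hp).mp (hk ▸ orderOf_pow_dvd (x := x) n)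
  exact ⟨j, hj⟩

theorem El.of_orderOf {p : ℕ} {x : G} (h : orderOf x = p) : El p x := ⟨1, by rw [h, pow_one]⟩

theorem El.conj {p : ℕ} {x : G} (h : El p x) (g : G) : El p (g * x * g⁻¹) := by
  obtain ⟨k, hk⟩ := h
  exact ⟨k, by rw [← hk]; exact orderOf_injective (MulAut.conj g).toMonoidHom (MulAut.conj g).injective x⟩

theorem El.mem_isPGroup {p : ℕ} [Fact p.Prime] {x : G} (h : El p x) : IsPGroup p (zpowers x) := by
  obtain ⟨k, hk⟩ := h
  exact IsPGroup.of_card (by rw [Nat.card_zpowers, hk])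

theorem el_of_mem_isPGroup {p : ℕ} [Fact p.Prime] {P : Subgroup G} (hP : IsPGroup p P) {x : G}
    (hx : x ∈ P) : El p x := by
  obtain ⟨k, hk⟩ := IsPGroup.iff_orderOf.mp hP ⟨x, hx⟩
  exact ⟨k, by rw [← Subgroup.orderOf_mk x hx]; exact hk⟩

theorem el_coprime {p q : ℕ} (hp : p.Prime) (hq : q.Prime) (hne : p ≠ q) {x y : G}
    (hx : El p x) (hy : El q y) : (orderOf x).Coprime (orderOf y) := by
  obtain ⟨i, hi⟩ := hx
  obtain ⟨j, hj⟩ := hy
  rw [hi, hj]
  exact Nat.Coprime.pow i j ((Nat.coprime_primes hp hq).mpr hne)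

variable [Finite G]

/-- A prime divisor of the order is realised in the cyclic group. -/
theorem exists_part {x : G} {r : ℕ} (h : r ∣ orderOf x) : ∃ y ∈ zpowers x, orderOf y = r :=
  ⟨x ^ (orderOf x / r), npow_mem_zpowers x _, orderOf_pow_orderOf_div (orderOf_pos x).ne' h⟩

theorem exists_prime_part {x : G} (hx : x ≠ 1) :
    ∃ r : ℕ, r.Prime ∧ ∃ y ∈ zpowers x, orderOf y = r := by
  obtain ⟨r, hr, hd⟩ := Nat.exists_prime_and_dvd (fun h => hx (orderOf_eq_one_iff.mp h))
  exact ⟨r, hr, exists_part hd⟩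

/-- An element whose order is not a power of `q` has a part of another prime order. -/
theorem exists_other_part {x : G} {q : ℕ} (h : ¬ El q x) :
    ∃ r : ℕ, r.Prime ∧ r ≠ q ∧ ∃ y ∈ zpowers x, orderOf y = r := by
  by_contra hall
  push Not at hall
  refine h ⟨_, Nat.eq_prime_pow_of_unique_prime_dvd (orderOf_pos x).ne' fun {d} hd hdx => ?_⟩
  by_contra hne
  obtain ⟨y, hy, hyd⟩ := exists_part hdx
  exact hall d hd hne y hy hyd

omit [Finite G] in
theorem ne_one_of_orderOf {x : G} {r : ℕ} (hr : r.Prime) (h : orderOf x = r) : x ≠ 1 := by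
  rintro rfl
  rw [orderOf_one] at h
  exact hr.one_lt.ne h

omit [Finite G] in
/-- A subgroup containing a Sylow subgroup for every prime is everything. -/
theorem eq_top_of_not_dvd_index {K : Subgroup G} (h : ∀ p : ℕ, p.Prime → ¬ p ∣ K.index) : K = ⊤ := by
  rw [← index_eq_one]
  by_contra hne
  obtain ⟨p, hp, hd⟩ := Nat.exists_prime_and_dvd hne
  exact h p hp hd

/-- A Sylow subgroup inside a subgroup of index prime to `p`. -/
theorem exists_sylow_le {p : ℕ} [Fact p.Prime] {K : Subgroup G} (h : ¬ p ∣ K.index) :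
    ∃ P : Sylow p G, (P : Subgroup G) ≤ K := by
  obtain ⟨P⟩ : Nonempty (Sylow p K) := inferInstance
  have hP : IsPGroup p ((P : Subgroup K).map K.subtype) := P.isPGroup'.map _
  have hi : ¬ p ∣ ((P : Subgroup K).map K.subtype).index := by
    rw [index_map_subtype]
    exact (Fact.out : p.Prime).not_dvd_mul P.not_dvd_index h
  exact ⟨hP.toSylow hi, by rw [IsPGroup.toSylow_coe]; exact map_subtype_le _⟩

theorem not_dvd_index_of_sylow_le {p : ℕ} [Fact p.Prime] {K : Subgroup G} (P : Sylow p G)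
    (h : (P : Subgroup G) ≤ K) : ¬ p ∣ K.index :=
  fun hd => P.not_dvd_index (hd.trans (index_dvd_of_le h))

/-- An element of `p`-power order centralizing a Sylow subgroup lies in it. -/
theorem mem_sylow_of_le_cen {p : ℕ} [Fact p.Prime] (P : Sylow p G) {x : G} (hx : El p x)
    (h : (P : Subgroup G) ≤ cen x) : x ∈ (P : Subgroup G) := by
  have hn : zpowers x ≤ normalizer ((P : Subgroup G) : Set G) := by
    rw [zpowers_le]
    have key : ∀ y ∈ (P : Subgroup G), x * y * x⁻¹ = y := fun y hy =>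
      mul_inv_eq_iff_eq_mul.mpr (mem_cen.mp (mem_cen_comm.mp (h hy)))
    refine mem_normalizer_iff.mpr fun y => ⟨fun hy => (key y hy).symm ▸ hy, fun hy => ?_⟩
    have h2 : x * y * x⁻¹ = y := by
      have h1 := key _ hy
      exact mul_left_cancel (mul_right_cancel h1)
    rwa [h2] at hy
  have hP : IsPGroup p ((P : Subgroup G) ⊔ zpowers x : Subgroup G) :=
    P.isPGroup'.to_sup_of_normal_left' hx.mem_isPGroup hn
  exact P.is_maximal' hP le_sup_left ▸ mem_sup_right (mem_zpowers x)

/-- A nontrivial element centralizing a Sylow subgroup inside it. -/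
theorem exists_central_of_sylow {p : ℕ} [Fact p.Prime] (P : Sylow p G) (hp : p ∣ Nat.card G) :
    ∃ z ∈ (P : Subgroup G), orderOf z = p ∧ (P : Subgroup G) ≤ cen z := by
  haveI : Nontrivial (P : Subgroup G) := (nontrivial_iff_ne_bot _).mpr (P.ne_bot_of_dvd_card hp)
  haveI := P.isPGroup'.center_nontrivial
  obtain ⟨n, hn0, hn⟩ := ((P.isPGroup'.to_subgroup (center (P : Subgroup G))).nontrivial_iff_card.mp
    inferInstance)
  obtain ⟨⟨⟨z, hz⟩, hzc⟩, hord⟩ := exists_prime_orderOf_dvd_card' (G := center (P : Subgroup G)) p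
    (hn ▸ dvd_pow_self p hn0.ne')
  rw [Subgroup.orderOf_mk, Subgroup.orderOf_mk] at hord
  exact ⟨z, hz, hord, fun y hy => mem_cen.mpr
    (congrArg Subtype.val (mem_center_iff.mp hzc ⟨y, hy⟩))⟩

/-- An element of `p`-power order in a Sylow subgroup. -/
theorem exists_sylow_mem {p : ℕ} [Fact p.Prime] {x : G} (hx : El p x) :
    ∃ P : Sylow p G, x ∈ (P : Subgroup G) := by
  obtain ⟨P, hP⟩ := hx.mem_isPGroup.exists_le_sylow
  exact ⟨P, hP (mem_zpowers x)⟩

/-- Elements of a subgroup commute when the coprime parts do and the Sylow subgroups are abelian. -/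
theorem comm_of_parts (A : Subgroup G)
    (hsame : ∀ p : ℕ, p.Prime → ∀ P : Sylow p A, ∀ a ∈ (P : Subgroup A), ∀ b ∈ (P : Subgroup A),
      a * b = b * a)
    (hcross : ∀ p q : ℕ, p.Prime → q.Prime → p ≠ q → ∀ a ∈ A, El p a → ∀ b ∈ A, El q b →
      a * b = b * a) :
    ∀ a ∈ A, ∀ b ∈ A, a * b = b * a := by
  have hkey : ∀ p : ℕ, p.Prime → ∀ a : A, El p (a : G) → centralizer ({a} : Set A) = ⊤ := by
    intro p hp a ha
    refine eq_top_of_not_dvd_index fun q hq => ?_
    haveI := Fact.mk hq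
    rcases eq_or_ne p q with rfl | hne
    · obtain ⟨k, hk⟩ := ha
      obtain ⟨P, hP⟩ := exists_sylow_mem (p := p) (x := a) ⟨k, by rwa [← Subgroup.orderOf_coe]⟩
      exact not_dvd_index_of_sylow_le P fun b hb =>
        mem_centralizer_singleton_iff.mpr (hsame p hp P b hb a hP)
    · obtain ⟨P⟩ : Nonempty (Sylow q A) := inferInstance
      refine not_dvd_index_of_sylow_le P fun b hb => mem_centralizer_singleton_iff.mpr ?_
      obtain ⟨k, hk⟩ := el_of_mem_isPGroup P.isPGroup' hb
      exact Subtype.ext (hcross p q hp hq hne a a.2 ha b b.2 ⟨k, by rwa [Subgroup.orderOf_coe]⟩).symm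
  have hZ : center A = ⊤ := by
    refine eq_top_of_not_dvd_index fun p hp => ?_
    haveI := Fact.mk hp
    obtain ⟨P⟩ : Nonempty (Sylow p A) := inferInstance
    refine not_dvd_index_of_sylow_le P fun a ha => mem_center_iff.mpr fun b => ?_
    obtain ⟨k, hk⟩ := el_of_mem_isPGroup P.isPGroup' ha
    have := hkey p hp a ⟨k, by rwa [Subgroup.orderOf_coe]⟩
    exact mem_centralizer_singleton_iff.mp (this ▸ mem_top b)
  intro a ha b hb
  exact congrArg Subtype.val (mem_center_iff.mp (hZ ▸ mem_top (⟨b, hb⟩ : A)) ⟨a, ha⟩)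

/-- Subgroups of coprime index factorise the group. -/
theorem exists_mul_of_coprime {A B : Subgroup G} (h : A.index.Coprime B.index) (g : G) :
    ∃ a ∈ A, ∃ b ∈ B, g = a * b := by
  have hi := ClassSizeTop.index_inf_of_coprime h
  have hr : (A ⊓ B).relIndex A * A.index = (A ⊓ B).index := relIndex_mul_index inf_le_left
  rw [hi, mul_comm A.index] at hr
  have hB : (A ⊓ B).relIndex A = B.index :=
    Nat.eq_of_mul_eq_mul_right (Nat.pos_of_ne_zero FiniteIndex.index_ne_zero) hr
  rw [inf_relIndex_left] at hB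
  have hsub : B.subgroupOf A = B.subgroupOf A := rfl
  let f : A ⧸ B.subgroupOf A → G ⧸ B := Quotient.map' Subtype.val fun a b hab => by
    rw [QuotientGroup.leftRel_apply] at hab ⊢
    exact mem_subgroupOf.mp hab
  have hf : Function.Injective f := by
    intro p q
    induction p using Quotient.inductionOn' with
    | h a => induction q using Quotient.inductionOn' with
      | h b =>
        intro e
        refine Quotient.sound' ?_
        rw [QuotientGroup.leftRel_apply]
        exact mem_subgroupOf.mpr (QuotientGroup.eq.mp e)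
  have hs := (hf.bijective_of_nat_card_le (by
    show Nat.card (G ⧸ B) ≤ Nat.card (A ⧸ B.subgroupOf A)
    exact (le_of_eq hB.symm))).2 (g : G ⧸ B)
  obtain ⟨p, hp⟩ := hs
  induction p using Quotient.inductionOn' with
  | h a => exact ⟨a, a.2, (a : G)⁻¹ * g, QuotientGroup.eq.mp hp, by group⟩

omit [Finite G] in
/-- In a simple group the elements of two factorising centralizers do not commute. -/
theorem not_commute_of_factor [IsSimpleGroup G] {u v : G} (hu : u ≠ 1) (hv : cen v ≠ ⊤)
    (hfac : ∀ g, ∃ b ∈ cen v, ∃ a ∈ cen u, g = b * a) : u * v ≠ v * u := by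
  intro hc
  have hle : normalClosure ({u} : Set G) ≤ cen v := by
    rw [normalClosure, closure_le]
    intro w hw
    obtain ⟨s, hs, hconj⟩ := Group.mem_conjugatesOfSet_iff.mp hw
    rw [Set.mem_singleton_iff] at hs
    rw [hs] at hconj
    obtain ⟨g, rfl⟩ := isConj_iff.mp hconj
    obtain ⟨b, hb, a, ha, rfl⟩ := hfac g
    have h1 : b * a * u * (b * a)⁻¹ = b * u * b⁻¹ := by
      rw [mul_assoc b a u, mem_cen.mp ha]
      group
    rw [h1]
    exact mul_mem (mul_mem hb (mem_cen.mpr hc)) (inv_mem hb)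
  rcases (normalClosure_normal (s := ({u} : Set G))).eq_bot_or_eq_top with h | h
  · exact hu (mem_bot.mp (h ▸ subset_normalClosure rfl))
  · exact hv (top_le_iff.mp (h ▸ hle))

end Cfsg.Agent.Lib.ThreeCentralizers
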