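import Cfsg.Agent.Lib.ThreeCentralizers.Basic
import Cfsg.Agent.Lib.SmallGroups.Basic

/-!
# Incomparable centralizers
-/

set_option autoImplicit false
set_option linter.style.haveILetI false

namespace Cfsg.Agent.Lib.ThreeCentralizers

open Subgroup Cfsg.Agent.Lib

universe u

variable {G : Type u} [Group G]

/-- The order of a centralizer. -/
noncomputable abbrev csz (x : G) : ℕ := Nat.card (cen x)

/-- No smaller centralizer of a nontrivial element. -/
def Bottom (x : G) : Prop := ∀ y : G, y ≠ 1 → cen y ≤ cen x → cen y = cen x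

/-- Commuting in a subgroup. -/
def Comm (A : Subgroup G) : Prop := ∀ a ∈ A, ∀ b ∈ A, a * b = b * a

theorem csz_conj (g x : G) : csz (g * x * g⁻¹) = csz x := by
  unfold csz cen
  rw [ClassSizeTop.cent_conj]
  exact Nat.card_congr (equivMapOfInjective _ _ (MulAut.conj g).injective).symm.toEquiv

variable [Finite G]

theorem csz_pos (x : G) : 0 < csz x := Nat.card_pos

theorem index_eq_of_csz_eq {x y : G} (h : csz x = csz y) : (cen x).index = (cen y).index := by
  have h1 := (cen x).card_mul_index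
  rw [← (cen y).card_mul_index, show Nat.card (cen x) = csz x from rfl, h] at h1
  exact Nat.eq_of_mul_eq_mul_left (csz_pos y) h1

theorem cen_eq_of_le {x y : G} (h : cen x ≤ cen y) (h' : csz x = csz y) : cen x = cen y :=
  eq_of_le_of_card_ge h h'.ge

omit [Finite G] in
theorem orderOf_dvd_csz (x : G) : orderOf x ∣ csz x := by
  rw [← Subgroup.orderOf_mk x (self_mem_cen x)]
  exact orderOf_dvd_natCard _

omit [Finite G] in
theorem orderOf_dvd_of_mem {x y : G} (h : y ∈ cen x) : orderOf y ∣ csz x := by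
  rw [← Subgroup.orderOf_mk y h]
  exact orderOf_dvd_natCard _

theorem exists_mem_of_dvd {x : G} {q : ℕ} (hq : q.Prime) (h : q ∣ csz x) :
    ∃ y ∈ cen x, orderOf y = q := by
  haveI := Fact.mk hq
  obtain ⟨⟨y, hy⟩, hord⟩ := exists_prime_orderOf_dvd_card' (G := cen x) q h
  exact ⟨y, hy, by rwa [Subgroup.orderOf_mk] at hord⟩

omit [Finite G] in
theorem Bottom.cen_le {p q : ℕ} (hp : p.Prime) (hq : q.Prime) (hne : p ≠ q) {x y : G} (hb : Bottom x)
    (hx : El p x) (hx1 : x ≠ 1) (hy : El q y) (hc : y ∈ cen x) : cen x ≤ cen y := by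
  have hco := el_coprime hp hq hne hx hy
  have hcomm : Commute x y := (mem_cen.mp hc).symm
  have he := ClassSizeTop.cent_mul_of_coprime hcomm hco
  have h1 : x * y ≠ 1 := fun h => hx1 (orderOf_eq_one_iff.mp (by
    rw [eq_inv_of_mul_eq_one_right h, orderOf_inv] at hco
    exact (Nat.coprime_self _).mp hco))
  have h2 := hb _ h1 (by rw [show cen (x * y) = cen x ⊓ cen y from he]; exact inf_le_left)
  rw [← h2, show cen (x * y) = cen x ⊓ cen y from he]
  exact inf_le_right

/-- A centralizer shared by elements of two prime orders is abelian. -/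
theorem comm_of_equal {p q : ℕ} (hp : p.Prime) (hq : q.Prime) (hne : p ≠ q) {x y : G}
    (hb : Bottom x) (hx : El p x) (hx1 : x ≠ 1) (hy : El q y) (hy1 : y ≠ 1) (he : cen y = cen x) :
    Comm (cen x) := by
  have hkey : ∀ (r : ℕ), r.Prime → ∀ w ∈ cen x, El r w → cen x ≤ cen w := by
    intro r hr w hw hwr
    rcases eq_or_ne p r with rfl | hpr
    · rw [← he]
      refine Bottom.cen_le hq hp hne.symm (fun z hz hle => ?_) hy hy1 hwr (he.symm ▸ hw)
      rw [he]
      exact hb z hz (he ▸ hle)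
    · exact hb.cen_le hp hr hpr hx hx1 hwr hw
  refine comm_of_parts (cen x) (fun r hr P a ha b hb' => ?_) (fun r s hr hs _ a ha har b hb' _ => ?_)
  · haveI := Fact.mk hr
    obtain ⟨k, hk⟩ := el_of_mem_isPGroup P.isPGroup' ha
    exact Subtype.ext (mem_cen.mp (hkey r hr a a.2 ⟨k, by rwa [Subgroup.orderOf_coe]⟩ b.2)).symm
  · exact (mem_cen.mp (hkey r hr a ha har hb')).symm

theorem isPGroup_two_of_no_odd {x : G} (h : ∀ q : ℕ, q.Prime → q ∣ csz x → q = 2) :
    IsPGroup 2 (cen x) :=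
  IsPGroup.of_card (Nat.eq_prime_pow_of_unique_prime_dvd (csz_pos x).ne' fun {d} hd hdx => h d hd hdx)

/-- Sylow `2`-subgroups are abelian when every `2`-element is central in one of them and their
centralizers are incomparable. -/
theorem sylow_comm (hA : ∀ x : G, El 2 x → x ≠ 1 → ∃ T : Sylow 2 G, (T : Subgroup G) ≤ cen x)
    (hB : ∀ x y : G, El 2 x → El 2 y → x ≠ 1 → y ≠ 1 → cen x ≤ cen y → cen x = cen y)
    (S : Sylow 2 G) : Comm (S : Subgroup G) := by
  haveI : Fact (Nat.Prime 2) := ⟨Nat.prime_two⟩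
  by_contra hns
  unfold Comm at hns
  push Not at hns
  obtain ⟨a0, ha0, b0, hb0, hab0⟩ := hns
  obtain ⟨w, hwS, hw2⟩ : ∃ w ∈ (S : Subgroup G), w * w ≠ 1 := by
    by_contra hall
    push Not at hall
    have hi : ∀ x ∈ (S : Subgroup G), x⁻¹ = x := fun x hx => inv_eq_of_mul_eq_one_right (hall x hx)
    apply hab0
    rw [← hi _ (mul_mem ha0 hb0), mul_inv_rev, hi a0 ha0, hi b0 hb0]
  have hw1 : w ≠ 1 := fun h => hw2 (by rw [h, one_mul])
  have hwel := el_of_mem_isPGroup S.isPGroup' hwS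
  obtain ⟨T, hT⟩ := hA w hwel hw1
  have hwT : w ∈ (T : Subgroup G) := mem_sylow_of_le_cen T hwel hT
  obtain ⟨g, hg⟩ := MulAction.exists_smul_eq G T S
  have hmem : ∀ y : G, y ∈ (T : Subgroup G) → g * y * g⁻¹ ∈ (S : Subgroup G) := by
    intro y hy
    rw [← hg, Sylow.coe_subgroup_smul]
    exact ⟨y, hy, rfl⟩
  have hmem' : ∀ y : G, y ∈ (S : Subgroup G) → g⁻¹ * y * g ∈ (T : Subgroup G) := by
    intro y hy
    rw [← hg, Sylow.coe_subgroup_smul] at hy
    obtain ⟨z, hz, rfl⟩ := hy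
    simp only [MulDistribMulAction.toMonoidEnd_apply, MulDistribMulAction.toMonoidHom_apply,
      MulAut.smul_def, MulAut.conj_apply]
    simpa [mul_assoc] using SetLike.mem_coe.mp hz
  set w' := g * w * g⁻¹ with hw'
  have hw'S : w' ∈ (S : Subgroup G) := hmem w hwT
  have hSw' : (S : Subgroup G) ≤ cen w' := fun y hy => by
    have h := mem_cen.mp (hT (hmem' y hy))
    rw [mem_cen, hw']
    calc y * (g * w * g⁻¹) = g * (g⁻¹ * y * g * w) * g⁻¹ := by group
      _ = g * (w * (g⁻¹ * y * g)) * g⁻¹ := by rw [h]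
      _ = g * w * g⁻¹ * y := by group
  have hw'2 : w' * w' ≠ 1 := fun h => hw2 (by
    rw [hw', show g * w * g⁻¹ * (g * w * g⁻¹) = g * (w * w) * g⁻¹ by group, conj_eq_one_iff] at h
    exact h)
  -- an element of order two modulo the centre
  have hZ : center (S : Subgroup G) ≠ ⊤ := fun h => hab0
    (congrArg Subtype.val (mem_center_iff.mp (h ▸ mem_top (⟨b0, hb0⟩ : (S : Subgroup G))) ⟨a0, ha0⟩))
  haveI : Nontrivial ((S : Subgroup G) ⧸ center (S : Subgroup G)) :=
    QuotientGroup.nontrivial_iff.mpr hZ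
  obtain ⟨n, hn0, hn⟩ := ((S.isPGroup'.to_quotient (center (S : Subgroup G))).nontrivial_iff_card.mp
    inferInstance)
  obtain ⟨q, hq⟩ := exists_prime_orderOf_dvd_card' (G := (S : Subgroup G) ⧸ center (S : Subgroup G)) 2
    (hn ▸ dvd_pow_self 2 hn0.ne')
  induction q using QuotientGroup.induction_on with | H x0 => ?_
  obtain ⟨x, hxS⟩ := x0
  have hxZ : (⟨x, hxS⟩ : (S : Subgroup G)) ∉ center (S : Subgroup G) := fun h => by
    rw [(QuotientGroup.eq_one_iff _).mpr h, orderOf_one] at hq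
    exact absurd hq (by norm_num)
  have hx2 : (⟨x, hxS⟩ * ⟨x, hxS⟩ : (S : Subgroup G)) ∈ center (S : Subgroup G) := by
    rw [← QuotientGroup.eq_one_iff, QuotientGroup.mk_mul, ← pow_two]
    exact orderOf_dvd_iff_pow_eq_one.mp hq.dvd
  have hSxx : (S : Subgroup G) ≤ cen (x * x) := fun y hy =>
    mem_cen.mpr (congrArg Subtype.val (mem_center_iff.mp hx2 ⟨y, hy⟩))
  have hxnc : ¬ (S : Subgroup G) ≤ cen x := fun h => hxZ (mem_center_iff.mpr fun y =>
    Subtype.ext (mem_cen.mp (h y.2)))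
  have hsq : ∀ v ∈ (S : Subgroup G), v * v ≠ 1 → (S : Subgroup G) ≤ cen (v * v) →
      (S : Subgroup G) ≤ cen v := by
    intro v hv hvv hle
    have hv1 : v ≠ 1 := fun h => hvv (by rw [h, one_mul])
    rw [hB v (v * v) (el_of_mem_isPGroup S.isPGroup' hv)
      (el_of_mem_isPGroup S.isPGroup' (mul_mem hv hv)) hv1 hvv
      (cen_le_of_zpowers (mul_mem (mem_zpowers v) (mem_zpowers v)))]
    exact hle
  by_cases hxx : x * x = 1
  · have hcomm : x * w' = w' * x := mem_cen.mp (hSw' hxS)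
    have hyy : x * w' * (x * w') = w' * w' := by
      rw [Commute.mul_mul_mul_comm hcomm.symm, hxx, one_mul]
    have hle : (S : Subgroup G) ≤ cen (x * w') := hsq _ (mul_mem hxS hw'S) (by rw [hyy]; exact hw'2)
      (by
        rw [hyy]
        intro y hy
        exact cen_le_of_zpowers (mul_mem (mem_zpowers w') (mem_zpowers w')) (hSw' hy))
    refine hxnc fun y hy => ?_
    have h1 := mem_cen.mp (hle hy)
    have h2 := mem_cen.mp (hSw' hy)
    rw [mem_cen]
    have : y * x * w' = x * y * w' := by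
      rw [mul_assoc, h1, mul_assoc x y w', h2]
      group
    exact mul_right_cancel this
  · exact hxnc (hsq x hxS hxx hSxx)

omit [Finite G] in
/-- The facts used from simplicity. -/
theorem cen_ne_top [IsSimpleGroup G] (hna : ¬ IsMulCommutative G) {x : G} (hx : x ≠ 1) : cen x ≠ ⊤ := by
  intro h
  have hmem : x ∈ center G := mem_center_iff.mpr fun y => mem_cen.mp (h ▸ mem_top y)
  rcases (inferInstance : (center G).Normal).eq_bot_or_eq_top with hb | ht
  · exact hx (mem_bot.mp (hb ▸ hmem))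
  · exact hna ⟨⟨fun a b => mem_center_iff.mp (ht ▸ mem_top b) a⟩⟩

/-- No class of prime power size. -/
theorem index_ne_prime_pow [IsSimpleGroup G] (hna : ¬ IsMulCommutative G) {x : G} (hx : x ≠ 1)
    {p : ℕ} (hp : p.Prime) (k : ℕ) : (cen x).index ≠ p ^ k := by
  intro h
  haveI := Fact.mk (S0143.result p k hp x hx h)
  haveI : IsCyclic G := isCyclic_of_prime_card (p := Nat.card G) rfl
  exact hna ⟨⟨fun a b => IsCyclic.commGroup.mul_comm a b⟩⟩

/-- Some prime divisor of the index differs from a given prime. -/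
theorem exists_prime_index [IsSimpleGroup G] (hna : ¬ IsMulCommutative G) {x : G} (hx : x ≠ 1)
    {p : ℕ} (hp : p.Prime) : ∃ q : ℕ, q.Prime ∧ q ≠ p ∧ q ∣ (cen x).index := by
  by_contra hall
  push Not at hall
  refine index_ne_prime_pow hna hx hp _ (Nat.eq_prime_pow_of_unique_prime_dvd
    (index_ne_zero_of_finite (H := cen x)) fun {d} hd hdx => ?_)
  by_contra hne
  exact hall d hd hne hdx

/-- **Incomparable centralizers**: centralizers of involutions are abelian. -/
theorem comm_of_free [IsSimpleGroup G] (hna : ¬ IsMulCommutative G)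
    (hfree : ∀ x y : G, x ≠ 1 → y ≠ 1 → cen x ≤ cen y → cen x = cen y)
    (hle3 : ∀ x y z w : G, x ≠ 1 → y ≠ 1 → z ≠ 1 → w ≠ 1 → csz x ≠ csz y → csz z ≠ csz x →
      csz z ≠ csz y → csz w ≠ csz x → csz w ≠ csz y → csz w = csz z)
    (t : G) (ht : orderOf t = 2) : Comm (cen t) := by
  haveI : Fact (Nat.Prime 2) := ⟨Nat.prime_two⟩
  have hbot : ∀ x : G, x ≠ 1 → Bottom x := fun x hx y hy hle => hfree y x hy hx hle
  have hdich : ∀ s : G, orderOf s = 2 → ¬ Comm (cen s) → IsPGroup 2 (cen s) := by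
    intro s hs hns
    refine isPGroup_two_of_no_odd fun q hq hd => ?_
    by_contra hq2
    obtain ⟨y, hy, hyo⟩ := exists_mem_of_dvd hq hd
    have hy1 := ne_one_of_orderOf hq hyo
    have hs1 := ne_one_of_orderOf Nat.prime_two hs
    exact hns (comm_of_equal Nat.prime_two hq (Ne.symm hq2) (hbot s hs1) (.of_orderOf hs) hs1
      (.of_orderOf hyo) hy1 (hfree s y hs1 hy1
        ((hbot s hs1).cen_le Nat.prime_two hq (Ne.symm hq2) (.of_orderOf hs) hs1 (.of_orderOf hyo) hy)).symm)
  by_contra hns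
  have ht1 := ne_one_of_orderOf Nat.prime_two ht
  obtain ⟨S, htS⟩ := exists_sylow_mem (p := 2) (x := t) (.of_orderOf ht)
  obtain ⟨z, hzS, hz, hSz⟩ := exists_central_of_sylow S (ht ▸ orderOf_dvd_natCard t)
  have hz1 := ne_one_of_orderOf Nat.prime_two hz
  have hzn : ¬ Comm (cen z) := fun h => hns (by
    rw [← hfree z t hz1 ht1 fun a ha => mem_cen.mpr (h a ha t (hSz htS))]
    exact h)
  have hzP := hdich z hz hzn
  have hzeq : cen z = (S : Subgroup G) := S.is_maximal' hzP hSz
  -- every involution centralizer is a 2-group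
  have hinv : ∀ s : G, orderOf s = 2 → IsPGroup 2 (cen s) := by
    intro s hs
    obtain ⟨T, hsT⟩ := exists_sylow_mem (p := 2) (x := s) (.of_orderOf hs)
    obtain ⟨g, hg⟩ := MulAction.exists_smul_eq G T S
    have hs' : g * s * g⁻¹ ∈ (S : Subgroup G) := by
      rw [← hg, Sylow.coe_subgroup_smul]
      exact ⟨s, hsT, rfl⟩
    set s' := g * s * g⁻¹ with hs'def
    have hs'2 : orderOf s' = 2 := by
      rw [← hs]; exact orderOf_injective (MulAut.conj g).toMonoidHom (MulAut.conj g).injective s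
    have hs'1 := ne_one_of_orderOf Nat.prime_two hs'2
    have hP' : IsPGroup 2 (cen s') := hdich s' hs'2 fun h => hzn (by
      rw [← hfree s' z hs'1 hz1 fun a ha => mem_cen.mpr (h a ha z (mem_cen_comm.mp (hSz hs')))]
      exact h)
    obtain ⟨n, hn⟩ := IsPGroup.iff_card.mp hP'
    exact IsPGroup.of_card (n := n) (by rw [← hn]; exact (csz_conj g s).symm)
  have htwo : ∀ x : G, El 2 x → x ≠ 1 → IsPGroup 2 (cen x) := by
    intro x hx hx1
    obtain ⟨r, hr, y, hy, hyo⟩ := exists_prime_part hx1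
    obtain ⟨k, hk⟩ := hx
    have hr2 : r = 2 := (Nat.prime_dvd_prime_iff_eq hr Nat.prime_two).mp (hr.dvd_of_dvd_pow
      (hk ▸ hyo ▸ orderOf_dvd_of_mem_zpowers hy))
    subst hr2
    rw [hfree x y hx1 (ne_one_of_orderOf hr hyo) (cen_le_of_zpowers hy)]
    exact hinv y hyo
  have hall : ∀ x : G, El 2 x → x ≠ 1 → csz x = csz z := by
    intro x hx hx1
    by_contra hne
    obtain ⟨q, hq, hq2, hqd⟩ : ∃ q : ℕ, q.Prime ∧ q ≠ 2 ∧ q ∣ Nat.card G := by
      by_contra hno
      push Not at hno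
      refine SmallGroups.not_isPGroup hna (p := 2) (IsPGroup.of_card
        (Nat.eq_prime_pow_of_unique_prime_dvd Nat.card_pos.ne' fun {d} hd hdx => ?_))
      by_contra h
      exact hno d hd h hdx
    have hodd : ∀ (r : ℕ), r.Prime → r ≠ 2 → ∀ w : G, orderOf w = r → ¬ 2 ∣ csz w := by
      intro r hr hr2 w hw hd
      obtain ⟨s, hs, hso⟩ := exists_mem_of_dvd Nat.prime_two hd
      obtain ⟨n, hn⟩ := IsPGroup.iff_card.mp (hinv s hso)
      have := hw ▸ orderOf_dvd_of_mem (mem_cen_comm.mp hs)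
      rw [show csz s = 2 ^ n from hn] at this
      exact hr2 ((Nat.prime_dvd_prime_iff_eq hr Nat.prime_two).mp (hr.dvd_of_dvd_pow this))
    have hsame : ∀ (r r' : ℕ), r.Prime → r ≠ 2 → r'.Prime → r' ≠ 2 → ∀ w w' : G, orderOf w = r →
        orderOf w' = r' → csz w = csz w' := by
      intro r r' hr hr2 hr' hr'2 w w' hw hw'
      have h2 : ∀ y : G, El 2 y → y ≠ 1 → 2 ∣ csz y := fun y hy hy1 => by
        obtain ⟨k, hk⟩ := hy
        refine dvd_trans ?_ (orderOf_dvd_csz y)
        rw [hk]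
        exact dvd_pow_self 2 fun h => hy1 (orderOf_eq_one_iff.mp (by rw [hk, h, pow_zero]))
      have hzel : El 2 z := .of_orderOf hz
      exact hle3 z x w' w hz1 hx1 (ne_one_of_orderOf hr' hw') (ne_one_of_orderOf hr hw) (Ne.symm hne)
        (fun e => hodd r' hr' hr'2 w' hw' (e ▸ h2 z hzel hz1))
        (fun e => hodd r' hr' hr'2 w' hw' (e ▸ h2 x hx hx1))
        (fun e => hodd r hr hr2 w hw (e ▸ h2 z hzel hz1))
        (fun e => hodd r hr hr2 w hw (e ▸ h2 x hx hx1))
    haveI := Fact.mk hq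
    obtain ⟨Q⟩ : Nonempty (Sylow q G) := inferInstance
    obtain ⟨w, -, hw, -⟩ := exists_central_of_sylow Q hqd
    obtain ⟨r, hr, hr2, hrd⟩ := exists_prime_index hna (ne_one_of_orderOf hq hw) Nat.prime_two
    haveI := Fact.mk hr
    obtain ⟨R⟩ : Nonempty (Sylow r G) := inferInstance
    obtain ⟨w', -, hw', hR⟩ := exists_central_of_sylow R (hrd.trans (index_dvd_card _))
    exact not_dvd_index_of_sylow_le R hR (index_eq_of_csz_eq (hsame q r hq hq2 hr hr2 w w' hw hw') ▸ hrd)
  have hnd : ¬ 2 ∣ (cen z).index := not_dvd_index_of_sylow_le S hSz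
  have hcomm := sylow_comm (fun x hx hx1 => exists_sylow_le
    (by rw [index_eq_of_csz_eq (hall x hx hx1)]; exact hnd))
    (fun x y _ _ hx1 hy1 h => hfree x y hx1 hy1 h) S
  exact hzn (hzeq ▸ hcomm)

end Cfsg.Agent.Lib.ThreeCentralizers
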