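import Cfsg.Agent.Lib.TIFrob.Induced
import Cfsg.Agent.Lib.Perm.PermMult
import Cfsg.Agent.Lib.Chars.Ops
import Cfsg.Agent.Lib.Coherence.Virtual

/-!
# A regular self-centralizing abelian subgroup and the suborbits

Let `B` be abelian with `C(b) = B` for all `1 ≠ b ∈ B`, acting regularly on `Ω`.  If the stabilizer of a
point is not transitive on the other points, its orbits are those of its intersection with `N(B)`.
Induced differences of characters of `N(B)` have norm two; this forces every constituent of the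
permutation character to restrict irreducibly to `N(B)`.
-/

set_option autoImplicit false
set_option linter.style.haveILetI false

namespace Cfsg.Agent.Lib.ThreeCentralizers

open Cfsg MulAction
open scoped ComplexConjugate
open Cfsg.Agent.Lib.Chars Cfsg.Agent.Lib.Perm.CentraliserRing

universe u v

variable {G : Type u} [Group G]

/-- A character of degree zero is zero. -/
theorem eq_zero_of_degree_zero [Fintype G] {φ : G → ℂ} (h : IsCharacter G φ) (h1 : φ 1 = 0) : φ = 0 := by
  obtain ⟨m, rfl⟩ := isCharacter_exists_nat_decomp h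
  choose d hd using fun χ : IrrCharacter G => isIrrCharacter_exists_degree_pos χ.2
  have h2 : ∑ χ : IrrCharacter G, m χ * d χ = 0 := by
    have : ((∑ χ : IrrCharacter G, m χ * d χ : ℕ) : ℂ) = 0 := by
      push_cast
      simp only [Finset.sum_apply, Pi.smul_apply, smul_eq_mul] at h1
      rw [← h1]
      exact Finset.sum_congr rfl fun χ _ => by rw [(hd χ).2]
    exact_mod_cast this
  refine Finset.sum_eq_zero fun χ hχ => ?_
  have := (Finset.sum_eq_zero_iff.mp h2) χ hχ
  rcases Nat.mul_eq_zero.mp this with h | h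
  · simp [h]
  · exact absurd h (hd χ).1.ne'

/-- A function induced from a normal subgroup vanishes outside it. -/
theorem indFun_eq_zero_of_normal [Fintype G] (K : Subgroup G) [K.Normal] (θ : K → ℂ) {g : G}
    (hg : g ∉ K) : indFun K θ g = 0 := by
  unfold indFun
  rw [Finset.sum_eq_zero, mul_zero]
  intro x _
  refine extendByZero_of_not_mem θ fun h => hg ?_
  have := (inferInstance : K.Normal).conj_mem _ h x
  simpa [mul_assoc] using this

variable {Ω : Type v} [MulAction G Ω]

section

variable [Fintype G] [Fintype Ω]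
  (B : Subgroup G) (hab : IsMulCommutative B)
  (hcc : ∀ b ∈ B, b ≠ 1 → Subgroup.centralizer ({b} : Set G) = B)
  (hlt : B < Subgroup.normalizer (B : Set G))
  (o : Ω) (hreg : ∀ x : Ω, ∃ b ∈ B, b • o = x) (hfree : ∀ b ∈ B, b • o = o → b = 1)

include hcc in
omit [Fintype G] [Fintype Ω] in
theorem fixedBy_free {e : G} (he : e ∈ Subgroup.normalizer (B : Set G)) (heo : e • o = o) (he1 : e ≠ 1)
    (hfree : ∀ b ∈ B, b • o = o → b = 1) (hreg : ∀ x : Ω, ∃ b ∈ B, b • o = x) {x : Ω} (hx : e • x = x) :
    x = o := by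
  obtain ⟨b, hb, rfl⟩ := hreg x
  by_contra hne
  have hb1 : b ≠ 1 := fun h => hne (by rw [h, one_smul])
  have hc : e * b * e⁻¹ ∈ B := (Subgroup.mem_normalizer_iff.mp he b).1 hb
  have h1 : (b⁻¹ * (e * b * e⁻¹)) • o = o := by
    have : (e⁻¹ : G) • o = o := by rw [inv_smul_eq_iff, heo]
    rw [mul_smul, mul_smul, mul_smul, this, hx, inv_smul_smul]
  have h2 : e * b * e⁻¹ = b := (inv_mul_eq_one.mp (hfree _ (B.mul_mem (B.inv_mem hb) hc) h1)).symm
  have h3 : e ∈ B := by
    rw [← hcc b hb hb1, Subgroup.mem_centralizer_singleton_iff]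
    have := congrArg (fun z => z * e) h2
    simpa [mul_assoc] using this
  exact he1 (hfree e h3 heo)

include hab hcc hlt hreg hfree in
/-- The suborbits are those of `N(B)`. -/
theorem exists_normalizer_smul
    (hnt : ∃ x y : Ω, x ≠ o ∧ y ≠ o ∧ ∀ h : G, h • o = o → h • x ≠ y) :
    ∀ h : G, h • o = o → ∀ x : Ω,
      ∃ e ∈ Subgroup.normalizer (B : Set G), e • o = o ∧ e • x = h • x := by
  classical
  set N : Subgroup G := Subgroup.normalizer (B : Set G) with hN
  let K : Subgroup N := B.subgroupOf N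
  haveI hKn : K.Normal := (Subgroup.normal_subgroupOf_iff_le_normalizer hlt.le).mpr le_rfl
  haveI : Fintype N := Fintype.ofFinite N
  haveI : Fintype K := Fintype.ofFinite K
  haveI hKab : IsMulCommutative K := ⟨⟨fun a b => Subtype.ext (Subtype.ext (by
    show ((a : N) : G) * ((b : N) : G) = ((b : N) : G) * ((a : N) : G)
    exact congrArg Subtype.val
      (hab.is_comm.comm (⟨_, Subgroup.mem_subgroupOf.mp a.2⟩ : B) ⟨_, Subgroup.mem_subgroupOf.mp b.2⟩)))⟩⟩
  have hBN : B ≤ N := hlt.le
  haveI : IsPretransitive N Ω := ⟨fun x y => by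
    obtain ⟨a, ha, rfl⟩ := hreg x
    obtain ⟨b, hb, rfl⟩ := hreg y
    exact ⟨⟨b * a⁻¹, hBN (B.mul_mem hb (B.inv_mem ha))⟩, by
      show (b * a⁻¹) • a • o = b • o
      rw [mul_smul, inv_smul_smul]⟩⟩
  haveI : IsPretransitive G Ω := ⟨fun x y => by
    obtain ⟨g, hg⟩ := exists_smul_eq N x y
    exact ⟨(g : G), hg⟩⟩
  haveI : Nonempty Ω := ⟨o⟩
  -- `B` is regular
  let β : K → Ω := fun b => ((b : N) : G) • o
  have hβ : Function.Bijective β := by
    refine ⟨fun a b hab' => ?_, fun x => ?_⟩
    · refine Subtype.ext (Subtype.ext (inv_mul_eq_one.mp (hfree (((a : N) : G)⁻¹ * ((b : N) : G))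
        (B.mul_mem (B.inv_mem (Subgroup.mem_subgroupOf.mp a.2)) (Subgroup.mem_subgroupOf.mp b.2)) ?_)))
      rw [mul_smul]
      exact inv_smul_eq_iff.mpr hab'.symm
    · obtain ⟨b, hb, rfl⟩ := hreg x
      exact ⟨⟨⟨b, hBN hb⟩, Subgroup.mem_subgroupOf.mpr hb⟩, rfl⟩
  have hcardK : Nat.card K = Fintype.card Ω := by
    rw [Nat.card_eq_of_bijective β hβ, Nat.card_eq_fintype_card]
  let pN : N → ℂ := fun g => (Nat.card (fixedBy Ω g) : ℂ)
  let mN : IrrCharacter N → ℕ := mult (permRep ℂ N Ω)
  have hpN : pN = ∑ θ : IrrCharacter N, (mN θ : ℂ) • (θ : N → ℂ) := by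
    have h := char_eq_sum_mult (permRep ℂ N Ω)
    rw [char_permRep] at h
    exact h
  have hrestrict : ∀ l : K → ℂ, classInner (fun b : K => pN b) l = conj (l 1) := by
    intro l
    unfold classInner
    rw [Finset.sum_eq_single (1 : K)]
    · have : fixedBy Ω (((1 : K) : N)) = Set.univ := Set.eq_univ_of_forall fun x => one_smul _ x
      simp only [pN, this, Nat.card_coe_set_eq, Set.ncard_univ, Nat.card_eq_fintype_card (α := Ω)]
      rw [← Nat.card_eq_fintype_card (α := Ω), Nat.card_eq_fintype_card (α := Ω), ← hcardK, ← mul_assoc,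
        inv_mul_cancel₀ natCard_ne_zero, one_mul]
    · intro b _ hb
      have : fixedBy Ω ((b : N)) = ∅ := by
        refine Set.eq_empty_of_forall_notMem fun x hx => hb ?_
        obtain ⟨a, rfl⟩ := hβ.2 x
        have hm : a⁻¹ * b * a = b := by
          rw [mul_assoc, mul_comm' b a, inv_mul_cancel_left]
        apply hβ.1
        show (((b : N) : G)) • o = (((1 : K) : N) : G) • o
        have hx' : (((b : N) : G)) • ((a : N) : G) • o = ((a : N) : G) • o := hx
        have := congrArg (fun k : K => ((k : N) : G)) hm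
        simp only [Subgroup.coe_mul, Subgroup.coe_inv] at this
        rw [← this, mul_smul, mul_smul, hx', inv_smul_smul]
        simp
      show pN (b : N) * _ = 0
      rw [show pN (b : N) = 0 by simp only [pN]; rw [this]; simp, zero_mul]
    · simp
  have hlin : ∀ l : IrrCharacter K, classInner (fun b : K => pN b) (l : K → ℂ) = 1 := fun l => by
    rw [hrestrict, irr_apply_one_of_comm]
    simp
  -- restriction multiplicities to `K`
  choose d hd using fun (θ : IrrCharacter N) (l : IrrCharacter K) =>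
    isCharacter_classInner_nat (isCharacter_restrict K (irr_isCharacter θ)) (irr_isCharacter l)
  have hsumK : ∀ l : IrrCharacter K, ∑ θ, mN θ * d θ l = 1 := by
    intro l
    have h := hlin l
    rw [hpN] at h
    have h' : classInner (fun b : K => (∑ θ : IrrCharacter N, (mN θ : ℂ) • (θ : N → ℂ)) b) (l : K → ℂ)
        = ((∑ θ, mN θ * d θ l : ℕ) : ℂ) := by
      have e : (fun b : K => (∑ θ : IrrCharacter N, (mN θ : ℂ) • (θ : N → ℂ)) b)
          = ∑ θ : IrrCharacter N, (mN θ : ℂ) • (fun b : K => (θ : N → ℂ) b) := by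
        funext b; simp [Finset.sum_apply]
      rw [e, classInner_sum_left]
      push_cast
      exact Finset.sum_congr rfl fun θ _ => by rw [classInner_smul_left, hd]
    rw [h] at h'
    exact_mod_cast h'.symm
  have htrivN : mN (trivialIrr N) = 1 := mult_trivial (G := N) (Ω := Ω)
  -- the nontrivial constituents over `N`
  let I : Finset (IrrCharacter N) := Finset.univ.filter fun θ => θ ≠ trivialIrr N ∧ mN θ ≠ 0
  let e' : ℕ := K.index
  have hI : ∀ θ ∈ I, mN θ = 1 ∧ ∃ l : IrrCharacter K, 1 ≤ d θ l := by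
    intro θ hθ
    obtain ⟨-, hm⟩ := (Finset.mem_filter.mp hθ).2
    obtain ⟨m, hmd⟩ := isCharacter_exists_nat_decomp (isCharacter_restrict K (irr_isCharacter θ))
    obtain ⟨l, hl⟩ : ∃ l, m l ≠ 0 := by
      by_contra hall
      push Not at hall
      have := congrFun hmd 1
      simp [hall] at this
      exact irr_apply_one_ne_zero θ this
    have hdl : 1 ≤ d θ l := by
      have h := hd θ l
      rw [hmd, classInner_sum_smul_irr] at h
      have h' : m l = d θ l := by exact_mod_cast h
      omega
    have h := hsumK l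
    have hle : mN θ * d θ l ≤ 1 := h ▸ Finset.single_le_sum (f := fun θ => mN θ * d θ l)
      (fun _ _ => Nat.zero_le _) (Finset.mem_univ θ)
    have := Nat.le_mul_of_pos_right (mN θ) hdl
    exact ⟨by omega, l, hdl⟩
  -- degrees
  have hind : ∀ θ ∈ I, ∃ (l : IrrCharacter K) (ψ : N → ℂ), IsCharacter N ψ ∧
      indFun K (l : K → ℂ) = (θ : N → ℂ) + ψ := by
    intro θ hθ
    obtain ⟨-, l, hl⟩ := hI θ hθ
    obtain ⟨m, hmd⟩ := isCharacter_exists_nat_decomp (isCharacter_indFun K (irr_isCharacter l))
    have hml : 1 ≤ m θ := by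
      have h : classInner (indFun K (l : K → ℂ)) (θ : N → ℂ) = (m θ : ℂ) := by
        rw [hmd, classInner_sum_smul_irr]
      rw [classInner_indFun_left K _ _ (irr_isClassFunction θ), ← conj_classInner, hd] at h
      simp only [map_natCast] at h
      have : d θ l = m θ := by exact_mod_cast h
      omega
    refine ⟨l, ∑ χ, ((if χ = θ then m χ - 1 else m χ : ℕ) : ℂ) • (χ : N → ℂ), isCharacter_sum_irr _, ?_⟩
    rw [hmd, ← Finset.add_sum_erase _ _ (Finset.mem_univ θ),
      ← Finset.add_sum_erase _ (fun χ => ((if χ = θ then m χ - 1 else m χ : ℕ) : ℂ) • (χ : N → ℂ))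
        (Finset.mem_univ θ), ← add_assoc]
    congr 1
    · rw [if_pos rfl, Nat.cast_sub hml, sub_smul, Nat.cast_one, one_smul]
      abel
    · refine Finset.sum_congr rfl fun χ hχ => ?_
      rw [if_neg (Finset.ne_of_mem_erase hχ)]
  haveI : Nonempty (IrrCharacter K) := ⟨trivialIrr K⟩
  choose! lam ψ hψ hlam using hind
  choose deg hdeg using fun χ : IrrCharacter N => isIrrCharacter_exists_degree_pos χ.2
  have hdegψ : ∀ θ ∈ I, deg θ ≤ e' ∧ (deg θ = e' → ψ θ = 0) := by
    intro θ hθ
    obtain ⟨k, hk⟩ := isCharacter_exists_degree (hψ θ hθ)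
    have h1 := congrFun (hlam θ hθ) 1
    rw [indFun_one_eq, irr_apply_one_of_comm, mul_one, Pi.add_apply, (hdeg θ).2, hk] at h1
    have h2 : K.index = deg θ + k := by exact_mod_cast h1
    refine ⟨by omega, fun he => eq_zero_of_degree_zero (hψ θ hθ) ?_⟩
    rw [hk, show k = 0 by omega]
    simp
  -- counting
  let E : Subgroup N := stabilizer N o
  haveI : Fintype E := Fintype.ofFinite E
  have hcardE : Nat.card E = e' := by
    have h1 : E.index = Fintype.card Ω := by
      rw [show E = stabilizer N o from rfl, index_stabilizer, orbit_eq_univ, Set.ncard_univ,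
        Nat.card_eq_fintype_card]
    have h2 := E.card_mul_index
    rw [h1, ← K.card_mul_index, hcardK, mul_comm] at h2
    exact Nat.eq_of_mul_eq_mul_left Fintype.card_pos h2
  set t : ℕ := Nat.card (orbitRel.Quotient E Ω) with ht
  have hburn : t * e' = Fintype.card Ω + (e' - 1) := by
    haveI : Fintype (orbitRel.Quotient E Ω) := Fintype.ofFinite _
    haveI : ∀ g : E, Fintype (fixedBy Ω g) := fun g => Fintype.ofFinite _
    have h := sum_card_fixedBy_eq_card_orbits_mul_card_group E Ω
    simp only [← Nat.card_eq_fintype_card] at h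
    rw [hcardE, ← Finset.sum_erase_add _ _ (Finset.mem_univ (1 : E))] at h
    have h1 : Nat.card (fixedBy Ω (1 : E)) = Fintype.card Ω := by
      rw [show fixedBy Ω (1 : E) = Set.univ from Set.eq_univ_of_forall fun x => one_smul _ x,
        Nat.card_coe_set_eq, Set.ncard_univ, Nat.card_eq_fintype_card]
    have h2 : ∀ g ∈ (Finset.univ : Finset E).erase 1, Nat.card (fixedBy Ω g) = 1 := by
      intro g hg
      have hg1 : g ≠ 1 := Finset.ne_of_mem_erase hg
      rw [show fixedBy Ω g = {o} from ?_, Nat.card_coe_set_eq, Set.ncard_singleton]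
      refine Set.eq_singleton_iff_unique_mem.mpr ⟨mem_stabilizer_iff.mp g.2, fun x hx => ?_⟩
      exact fixedBy_free B hcc o (g : N).2 (mem_stabilizer_iff.mp g.2)
        (fun e => hg1 (Subtype.ext (Subtype.ext e))) hfree hreg hx
    rw [h1, Finset.sum_congr rfl h2, Finset.sum_const, Finset.card_erase_of_mem (Finset.mem_univ _),
      Finset.card_univ, ← Nat.card_eq_fintype_card, hcardE, smul_eq_mul, mul_one] at h
    exact h.symm.trans (add_comm _ _)
  have hsq : ∑ θ : IrrCharacter N, mN θ * mN θ = t := sum_mult_sq (G := N) o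
  have hnotI : ∀ θ, θ ∉ I → θ ≠ trivialIrr N → mN θ = 0 := by
    intro θ hθ hne
    by_contra hm
    exact hθ (Finset.mem_filter.mpr ⟨Finset.mem_univ _, hne, hm⟩)
  have htI : t = I.card + 1 := by
    rw [← hsq, ← Finset.sum_subset (Finset.subset_univ (insert (trivialIrr N) I)),
      Finset.sum_insert (fun h => (Finset.mem_filter.mp h).2.1 rfl), htrivN,
      Finset.sum_congr rfl fun θ hθ => by rw [(hI θ hθ).1]]
    · simp [add_comm]
    · intro θ _ hθ
      rw [Finset.mem_insert, not_or] at hθ
      simp [hnotI θ hθ.2 hθ.1]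
  have hdegsum : Fintype.card Ω = 1 + ∑ θ ∈ I, deg θ := by
    have h := card_eq_sum_mult (G := N) (Ω := Ω)
    rw [← Finset.sum_subset (Finset.subset_univ (insert (trivialIrr N) I)),
      Finset.sum_insert (fun h => (Finset.mem_filter.mp h).2.1 rfl)] at h
    · have h' : ∑ θ ∈ I, ((mult (permRep ℂ N Ω) θ : ℕ) : ℂ) * (θ : N → ℂ) 1
          = ((∑ θ ∈ I, deg θ : ℕ) : ℂ) := by
        push_cast
        refine Finset.sum_congr rfl fun θ hθ => ?_
        rw [show mult (permRep ℂ N Ω) θ = 1 from (hI θ hθ).1, Nat.cast_one, one_mul, (hdeg θ).2]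
      rw [h', show mult (permRep ℂ N Ω) (trivialIrr N) = 1 from htrivN,
        show ((trivialIrr N : IrrCharacter N) : N → ℂ) 1 = 1 from rfl] at h
      push_cast at h
      rw [one_mul] at h
      exact_mod_cast h
    · intro θ _ hθ
      rw [Finset.mem_insert, not_or] at hθ
      rw [show mult (permRep ℂ N Ω) θ = 0 from hnotI θ hθ.2 hθ.1]
      simp
  have hfull : ∀ θ ∈ I, deg θ = e' := by
    have hle : ∑ θ ∈ I, deg θ ≤ ∑ _θ ∈ I, e' := Finset.sum_le_sum fun θ hθ => (hdegψ θ hθ).1
    have heq : ∑ θ ∈ I, deg θ = ∑ _θ ∈ I, e' := by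
      rw [Finset.sum_const, smul_eq_mul] at hle ⊢
      have : 0 < e' := hcardE ▸ Nat.card_pos
      rw [htI, add_mul, one_mul] at hburn
      omega
    exact fun θ hθ => (Finset.sum_eq_sum_iff_of_le fun θ hθ => (hdegψ θ hθ).1).mp heq θ hθ
  have hsupp : ∀ θ ∈ I, ∀ x : N, (x : G) ∉ B → (θ : N → ℂ) x = 0 := by
    intro θ hθ x hx
    have h := congrFun (hlam θ hθ) x
    rw [(hdegψ θ hθ).2 (hfull θ hθ), indFun_eq_zero_of_normal K _
      (fun h => hx (Subgroup.mem_subgroupOf.mp h)), add_zero] at h
    exact h.symm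
  -- constituents over `G`
  let mG : IrrCharacter G → ℕ := mult (permRep ℂ G Ω)
  choose r hr using fun (χ : IrrCharacter G) (θ : IrrCharacter N) =>
    isCharacter_classInner_nat (isCharacter_restrict N (irr_isCharacter χ)) (irr_isCharacter θ)
  have hsumN : ∀ θ, ∑ χ, mG χ * r χ θ = mN θ := by
    intro θ
    have h : classInner pN (θ : N → ℂ) = (mN θ : ℂ) := classInner_permChar_eq_mult (G := N) θ
    have hp : pN = ∑ χ : IrrCharacter G, (mG χ : ℂ) • (fun x : N => (χ : G → ℂ) x) := by
      have h := char_eq_sum_mult (permRep ℂ G Ω)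
      rw [char_permRep] at h
      funext x
      have := congrFun h (x : G)
      simp only [Finset.sum_apply, Pi.smul_apply, smul_eq_mul] at this ⊢
      exact this
    rw [hp, classInner_sum_left] at h
    have h' : ((∑ χ, mG χ * r χ θ : ℕ) : ℂ) = (mN θ : ℂ) := by
      rw [← h]
      push_cast
      exact Finset.sum_congr rfl fun χ _ => by rw [classInner_smul_left, hr]
    exact_mod_cast h'
  have hrtriv : ∀ θ, θ ≠ trivialIrr N → r (trivialIrr G) θ = 0 := by
    intro θ hθ
    have h := hr (trivialIrr G) θ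
    rw [show (fun x : N => ((trivialIrr G : IrrCharacter G) : G → ℂ) x) = ((trivialIrr N : IrrCharacter N) : N → ℂ)
      from rfl, classInner_irr_of_ne (Ne.symm hθ)] at h
    exact_mod_cast h.symm
  have htrivG : mG (trivialIrr G) = 1 := mult_trivial (G := G) (Ω := Ω)
  have hC : ∀ θ ∈ I, ∃ χ, χ ≠ trivialIrr G ∧ mG χ = 1 ∧ r χ θ = 1 ∧
      ∀ χ', χ' ≠ χ → mG χ' * r χ' θ = 0 := by
    intro θ hθ
    have h := hsumN θ
    rw [(hI θ hθ).1] at h
    obtain ⟨χ, -, hχ⟩ := Finset.exists_ne_zero_of_sum_ne_zero (h ▸ one_ne_zero)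
    have hle : mG χ * r χ θ ≤ 1 := h ▸ Finset.single_le_sum (f := fun χ => mG χ * r χ θ)
      (fun _ _ => Nat.zero_le _) (Finset.mem_univ χ)
    have h1 : mG χ * r χ θ = 1 := by omega
    refine ⟨χ, ?_, Nat.eq_one_of_mul_eq_one_right h1, Nat.eq_one_of_mul_eq_one_left h1, ?_⟩
    · rintro rfl
      exact hχ (by rw [hrtriv θ (Finset.mem_filter.mp hθ).2.1, mul_zero])
    · intro χ' hne
      have := Finset.add_le_sum (f := fun χ => mG χ * r χ θ) (fun _ _ => Nat.zero_le _)
        (Finset.mem_univ χ) (Finset.mem_univ χ') hne.symm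
      omega
  haveI : Nonempty (IrrCharacter G) := ⟨trivialIrr G⟩
  choose! C hC1 hC2 hC3 hC4 using hC
  let J : Finset (IrrCharacter G) := Finset.univ.filter fun χ => χ ≠ trivialIrr G ∧ mG χ ≠ 0
  have hJ : J = I.image C := by
    ext χ
    simp only [J, Finset.mem_filter, Finset.mem_univ, true_and, Finset.mem_image]
    refine ⟨fun ⟨hne, hm⟩ => ?_, ?_⟩
    · obtain ⟨m, hmd⟩ := isCharacter_exists_nat_decomp (isCharacter_restrict N (irr_isCharacter χ))
      obtain ⟨θ, hθ⟩ : ∃ θ, m θ ≠ 0 := by
        by_contra hall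
        push Not at hall
        have := congrFun hmd 1
        simp [hall] at this
        exact irr_apply_one_ne_zero χ this
      have hrθ : r χ θ ≠ 0 := by
        have h := hr χ θ
        rw [hmd, classInner_sum_smul_irr] at h
        have : m θ = r χ θ := by exact_mod_cast h
        omega
      have hθt : θ ≠ trivialIrr N := by
        rintro rfl
        have h := hsumN (trivialIrr N)
        rw [htrivN] at h
        have hrr : r (trivialIrr G) (trivialIrr N) = 1 := by
          have h := hr (trivialIrr G) (trivialIrr N)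
          rw [show (fun x : N => ((trivialIrr G : IrrCharacter G) : G → ℂ) x) =
            ((trivialIrr N : IrrCharacter N) : N → ℂ) from rfl, classInner_irr_self] at h
          exact_mod_cast h.symm
        have := Finset.add_le_sum (f := fun χ => mG χ * r χ (trivialIrr N)) (fun _ _ => Nat.zero_le _)
          (Finset.mem_univ (trivialIrr G)) (Finset.mem_univ χ) (Ne.symm hne)
        rw [htrivG, hrr] at this
        have := Nat.mul_pos (Nat.pos_of_ne_zero hm) (Nat.pos_of_ne_zero hrθ)
        omega
      have hθI : θ ∈ I := by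
        refine Finset.mem_filter.mpr ⟨Finset.mem_univ _, hθt, ?_⟩
        rw [← hsumN θ]
        have := Finset.single_le_sum (f := fun χ => mG χ * r χ θ)
          (fun _ _ => Nat.zero_le _) (Finset.mem_univ χ)
        have := Nat.mul_pos (Nat.pos_of_ne_zero hm) (Nat.pos_of_ne_zero hrθ)
        omega
      refine ⟨θ, hθI, ?_⟩
      by_contra h
      exact (Nat.mul_pos (Nat.pos_of_ne_zero hm) (Nat.pos_of_ne_zero hrθ)).ne'
        (hC4 θ hθI χ (Ne.symm h))
    · rintro ⟨θ, hθ, rfl⟩
      exact ⟨hC1 θ hθ, by rw [hC2 θ hθ]; exact one_ne_zero⟩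
  set S : ℕ := Nat.card (orbitRel.Quotient (stabilizer G o) Ω) with hS
  have hSJ : S = J.card + 1 := by
    rw [hS, ← sum_mult_sq (G := G) o,
      ← Finset.sum_subset (Finset.subset_univ (insert (trivialIrr G) J)),
      Finset.sum_insert (fun h => (Finset.mem_filter.mp h).2.1 rfl),
      show mult (permRep ℂ G Ω) (trivialIrr G) = 1 from htrivG,
      Finset.sum_congr rfl (g := fun _ => 1) fun χ hχ => by
        obtain ⟨θ, hθ, rfl⟩ := Finset.mem_image.mp (hJ ▸ hχ)
        rw [show mult (permRep ℂ G Ω) (C θ) = 1 from hC2 θ hθ]]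
    · simp [add_comm]
    · intro χ _ hχ
      rw [Finset.mem_insert, not_or] at hχ
      by_contra hm
      exact hχ.2 (Finset.mem_filter.mpr ⟨Finset.mem_univ _, hχ.1, fun e => hm (by
        show mG χ * mG χ = 0
        rw [e])⟩)
  have hJ2 : 1 < J.card := by
    obtain ⟨x, y, hx, hy, hxy⟩ := hnt
    haveI : Fintype (orbitRel.Quotient (stabilizer G o) Ω) := Fintype.ofFinite _
    let q : Ω → orbitRel.Quotient (stabilizer G o) Ω := Quotient.mk''
    have hne : ∀ z w : Ω, (∀ h : G, h • o = o → h • z ≠ w) → q w ≠ q z := by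
      intro z w h e
      obtain ⟨g, hg⟩ := Quotient.exact' e
      exact h g (mem_stabilizer_iff.mp g.2) hg
    have h3 : 2 < S := by
      rw [hS, Nat.card_eq_fintype_card]
      refine Fintype.two_lt_card_iff.mpr ⟨q o, q x, q y, ?_, ?_, ?_⟩
      · exact (hne o x fun h hh e => hx (e ▸ hh)).symm
      · exact (hne o y fun h hh e => hy (e ▸ hh)).symm
      · exact (hne x y hxy).symm
    omega
  -- injectivity
  have hTI : ∀ g : G, g ∉ Subgroup.normalizer (B : Set G) → ∀ k ∈ B, g * k * g⁻¹ ∈ B → k = 1 := by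
    intro g hg k hk hgk
    by_contra hk1
    refine hg (Subgroup.mem_normalizer_iff.mpr fun x => ?_)
    have h1 := hcc k hk hk1
    have h2 := hcc _ hgk (fun h => hk1 (by simpa using (conj_eq_one_iff.mp h)))
    conv_lhs => rw [← h1]
    conv_rhs => rw [← h2]
    rw [Subgroup.mem_centralizer_singleton_iff, Subgroup.mem_centralizer_singleton_iff]
    constructor
    · intro h
      calc g * x * g⁻¹ * (g * k * g⁻¹) = g * (x * k) * g⁻¹ := by group
        _ = g * (k * x) * g⁻¹ := by rw [h]
        _ = g * k * g⁻¹ * (g * x * g⁻¹) := by group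
    · intro h
      have : g * (x * k) * g⁻¹ = g * (k * x) * g⁻¹ := by
        calc g * (x * k) * g⁻¹ = g * x * g⁻¹ * (g * k * g⁻¹) := by group
          _ = g * k * g⁻¹ * (g * x * g⁻¹) := h
          _ = g * (k * x) * g⁻¹ := by group
      exact mul_left_cancel (mul_right_cancel this)
  let f : IrrCharacter N → IrrCharacter N → G → ℂ := fun a b => indFun N ((a : N → ℂ) - (b : N → ℂ))
  have hfχ : ∀ a b χ, classInner (f a b) (χ : IrrCharacter G).1 = (r χ a : ℂ) - r χ b := by
    intro a b χ
    have e : ∀ z : IrrCharacter N, classInner (z : N → ℂ) (fun x : N => (χ : G → ℂ) x) = (r χ z : ℂ) := by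
      intro z
      rw [← conj_classInner, hr]
      simp
    rw [classInner_indFun_left N _ _ (irr_isClassFunction χ), classInner_sub_left, e, e]
  have hff : ∀ a b c c', c ∈ I → c' ∈ I →
      classInner (f a b) (f c c') = classInner ((a : N → ℂ) - (b : N → ℂ)) ((c : N → ℂ) - (c' : N → ℂ)) := by
    intro a b c c' hc hc'
    refine TIFrob.classInner_indFun_indFun B hTI hlt (fun k hk hk1 => (hcc k hk hk1).le)
      (isClassFunction_sub (irr_isClassFunction c) (irr_isClassFunction c')) (fun x hx => ?_) ?_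
    · show (c : N → ℂ) x - (c' : N → ℂ) x = 0
      rw [hsupp c hc x hx, hsupp c' hc' x hx, sub_zero]
    · show (c : N → ℂ) 1 - (c' : N → ℂ) 1 = 0
      rw [(hdeg c).2, (hdeg c').2, hfull c hc, hfull c' hc', sub_self]
  have hinj : Set.InjOn C (I : Set (IrrCharacter N)) := by
    intro a ha l hl hCal
    by_contra hal
    obtain ⟨χ, hχJ, hχ⟩ := Finset.exists_mem_ne hJ2 (C a)
    obtain ⟨j, hj, rfl⟩ := Finset.mem_image.mp (hJ ▸ hχJ)
    have hja : j ≠ a := fun e => hχ (by rw [e])
    have hjl : j ≠ l := fun e => hχ (by rw [e, hCal])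
    have z1 : r (C a) j = 0 := by
      have := hC4 j hj (C a) (Ne.symm hχ)
      rw [hC2 a ha, one_mul] at this
      exact this
    have z2 : r (C j) a = 0 := by
      have := hC4 a ha (C j) hχ
      rw [hC2 j hj, one_mul] at this
      exact this
    have z3 : r (C j) l = 0 := by
      have := hC4 l hl (C j) (hCal ▸ hχ)
      rw [hC2 j hj, one_mul] at this
      exact this
    set A : G → ℂ := ((C a : IrrCharacter G) : G → ℂ) with hA
    set A' : G → ℂ := ((C j : IrrCharacter G) : G → ℂ) with hA'
    have s1 : classInner (f a j) A = 1 := by rw [hA, hfχ, hC3 a ha, z1]; simp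
    have s2 : classInner (f a j) A' = -1 := by rw [hA', hfχ, hC3 j hj, z2]; simp
    have s1' : classInner A (f a j) = 1 := by rw [← conj_classInner, s1]; simp
    have s2' : classInner A' (f a j) = -1 := by rw [← conj_classInner, s2]; simp
    have s3 : classInner (f a j) (f a j) = 2 := by
      rw [hff a j a j ha hj, classInner_sub_left, classInner_sub_right, classInner_sub_right,
        classInner_irr_self, classInner_irr_self, classInner_irr_of_ne (Ne.symm hja),
        classInner_irr_of_ne hja]
      norm_num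
    have hzero : f a j - (A - A') = 0 := by
      apply Coherence.eq_zero_of_classInner_self
      simp only [classInner_sub_left, classInner_sub_right]
      rw [s1, s2, s1', s2', s3, hA, hA',
        classInner_irr_self, classInner_irr_self, classInner_irr_of_ne hχ,
        classInner_irr_of_ne (Ne.symm hχ)]
      norm_num
    have t1 : classInner (f a l) (f a j) = 1 := by
      rw [hff a l a j ha hj, classInner_sub_left, classInner_sub_right, classInner_sub_right,
        classInner_irr_self, classInner_irr_of_ne (Ne.symm hja), classInner_irr_of_ne (Ne.symm hal),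
        classInner_irr_of_ne (Ne.symm hjl)]
      norm_num
    rw [sub_eq_zero.mp hzero, classInner_sub_right, hA, hA', hfχ, hfχ, hC3 a ha, z2, z3] at t1
    rw [show r (C a) l = 1 by rw [hCal]; exact hC3 l hl] at t1
    norm_num at t1
  have hcount : t = S := by
    rw [htI, hSJ, hJ, Finset.card_image_of_injOn hinj]
  -- comparison of orbits
  intro h hh x
  let F : orbitRel.Quotient E Ω → orbitRel.Quotient (stabilizer G o) Ω :=
    Quotient.map' id (by
      rintro a b ⟨g, hg⟩
      exact ⟨⟨((g : N) : G), mem_stabilizer_iff.mpr (mem_stabilizer_iff.mp g.2)⟩, hg⟩)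
  have hFs : Function.Surjective F := by
    intro q
    induction q using Quotient.inductionOn' with
    | h a => exact ⟨Quotient.mk'' a, rfl⟩
  have hFi : Function.Injective F := (hFs.bijective_of_nat_card_le hcount.le).1
  have : (Quotient.mk'' (h • x) : orbitRel.Quotient E Ω) = Quotient.mk'' x :=
    hFi (Quotient.sound' (show (orbitRel (stabilizer G o) Ω).r (h • x) x from
      ⟨⟨h, mem_stabilizer_iff.mpr hh⟩, rfl⟩))
  obtain ⟨e, he⟩ := Quotient.exact' this
  exact ⟨((e : N) : G), (e : N).2, mem_stabilizer_iff.mp e.2, he⟩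

end

end Cfsg.Agent.Lib.ThreeCentralizers
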