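import Cfsg.Agent.Lib.ThreeCentralizers.Free
import Cfsg.Agent.Lib.ThreeCentralizers.Rank
import Cfsg.Agent.Lib.SmallGroups.PSLTwo.Parity
import Cfsg.Agent.Lib.PUnique.Basic
import Cfsg.Agent.Lib.ZStar.Final

/-!
# An involution centralizer complemented by a self-centralizing abelian subgroup
-/

set_option autoImplicit false
set_option linter.style.haveILetI false

namespace Cfsg.Agent.Lib.ThreeCentralizers

open Subgroup MulAction Cfsg.Agent.Lib

universe u

variable {G : Type u} [Group G] [Finite G] [IsSimpleGroup G]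

/-- An isolated involution is impossible in a nonabelian simple group. -/
theorem false_of_isolated (hna : ¬ IsMulCommutative G) {k : G} (hk : orderOf k = 2)
    (h : ∀ a : G, Commute k (a * k * a⁻¹) → a * k * a⁻¹ = k) : False := by
  have hz := Lib.ZStar.zStar G k ⟨hk, fun a ha => h a ha⟩
  have hbot : Cfsg.oddCore G = ⊥ := by
    rcases (inferInstance : (Cfsg.oddCore G).Normal).eq_bot_or_eq_top with hb | ht
    · exact hb
    · exfalso
      haveI : Fact (Nat.Prime 2) := ⟨Nat.prime_two⟩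
      have hc := Lib.PSolvable.pPrimeCore_coprime (p := 2) (G := G)
      rw [show Cfsg.pPrimeCore 2 G = ⊤ from ht, Subgroup.card_top] at hc
      have hd : 2 ∣ Nat.card G := hk ▸ orderOf_dvd_natCard k
      exact absurd (Nat.dvd_gcd hd (dvd_refl 2)) (by rw [hc]; norm_num)
  refine cen_ne_top hna (ne_one_of_orderOf Nat.prime_two hk) ((eq_top_iff' _).mpr fun g => mem_cen.mpr ?_)
  have h1 : k * g * k⁻¹ * g⁻¹ = 1 := mem_bot.mp (hbot ▸ hz g)
  rw [mul_inv_eq_one, mul_inv_eq_iff_eq_mul] at h1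
  exact h1.symm

omit [Finite G] in
/-- Permutation representations of a nonabelian simple group are even. -/
theorem sign_eq_one (hna : ¬ IsMulCommutative G) {α : Type*} [Fintype α] [DecidableEq α] [MulAction G α]
    (g : G) : Equiv.Perm.sign (MulAction.toPerm g : Equiv.Perm α) = 1 := by
  let f : G →* ℤˣ := Equiv.Perm.sign.comp (MulAction.toPermHom G α)
  rcases (MonoidHom.normal_ker f).eq_bot_or_eq_top with h | h
  · exact absurd ⟨⟨fun a b => (f.ker_eq_bot_iff.mp h) (by rw [map_mul, map_mul, mul_comm])⟩⟩ hna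
  · exact f.mem_ker.mp (h ▸ Subgroup.mem_top g)

/-- **No such pair exists.** -/
theorem point_false (hna : ¬ IsMulCommutative G) (u v : G) (hu : orderOf u = 2)
    (hab : Comm (cen v)) (hcc : ∀ b ∈ cen v, b ≠ 1 → cen b = cen v)
    (hfac : ∀ g : G, ∃ b ∈ cen v, ∃ h ∈ cen u, g = b * h) (hint : cen v ⊓ cen u = ⊥)
    (hodd : ¬ 2 ∣ csz v)
    (hsyl : ∃ (q : ℕ) (_ : Fact q.Prime) (Q : Sylow q G), q ∣ Nat.card G ∧ (Q : Subgroup G) ≤ cen v)
    (hinv : ∀ k : G, orderOf k = 2 → k ∈ cen u → csz k = csz u ∨ Bottom k) : False := by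
  classical
  haveI : Fact (Nat.Prime 2) := ⟨Nat.prime_two⟩
  haveI : Fintype G := Fintype.ofFinite G
  set B := cen v with hB
  set H := cen u with hH
  have habB : IsMulCommutative B := ⟨⟨fun a b => Subtype.ext (hab a a.2 b b.2)⟩⟩
  haveI : Fintype (G ⧸ H) := Fintype.ofFinite _
  set o : G ⧸ H := ((1 : G) : G ⧸ H) with ho
  have hsmul : ∀ g : G, g • o = (g : G ⧸ H) := fun g => by
    show ((g * 1 : G) : G ⧸ H) = _
    rw [mul_one]
  have hstab : ∀ g : G, g • o = o ↔ g ∈ H := fun g => by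
    rw [hsmul, ho, QuotientGroup.eq, mul_one, inv_mem_iff]
  have hreg : ∀ x : G ⧸ H, ∃ b ∈ B, b • o = x := by
    intro x
    induction x using QuotientGroup.induction_on with | H g => ?_
    obtain ⟨b, hb, h, hh, rfl⟩ := hfac g
    refine ⟨b, hb, ?_⟩
    rw [hsmul, QuotientGroup.eq, ← mul_assoc, inv_mul_cancel, one_mul]
    exact hh
  have hdis : ∀ b ∈ B, b ∈ H → b = 1 := fun b hb hbH => mem_bot.mp (hint ▸ mem_inf.mpr ⟨hb, hbH⟩)
  have hfree : ∀ b ∈ B, b • o = o → b = 1 := fun b hb h => hdis b hb ((hstab b).mp h)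
  have hHtop : H ≠ ⊤ := cen_ne_top hna (ne_one_of_orderOf Nat.prime_two hu)
  -- the normalizer is larger
  have hlt : B < normalizer (B : Set G) := by
    obtain ⟨q, hq, Q, hqd, hQ⟩ := hsyl
    refine lt_of_le_of_ne le_normalizer fun he => SmallGroups.not_normalizer_le_centralizer hna hqd Q ?_
    obtain ⟨b, hbQ, hb1⟩ : ∃ b ∈ (Q : Subgroup G), b ≠ 1 :=
      (Q : Subgroup G).bot_or_exists_ne_one.resolve_left (Q.ne_bot_of_dvd_card hqd)
    intro x hx
    have hxB : x ∈ B := by
      rw [he, mem_normalizer_iff]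
      have h1 := hcc b (hQ hbQ) hb1
      have hxb : x * b * x⁻¹ ∈ (Q : Subgroup G) := (mem_normalizer_iff.mp hx b).mp hbQ
      have h2 := hcc _ (hQ hxb) (fun h => hb1 (conj_eq_one_iff.mp h))
      have h3 : cen (x * b * x⁻¹) = (cen b).map (MulAut.conj x).toMonoidHom := ClassSizeTop.cent_conj x b
      rw [h1, h2] at h3
      intro a
      constructor
      · intro ha
        rw [h3]
        exact ⟨a, ha, rfl⟩
      · intro ha
        rw [h3] at ha
        obtain ⟨c, hc, hce⟩ := ha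
        simp only [MulEquiv.coe_toMonoidHom, MulAut.conj_apply] at hce
        rwa [← mul_left_cancel (mul_right_cancel hce)]
    exact mem_centralizer_iff.mpr fun y hy => hab y (hQ hy) x hxB
  set E : Subgroup G := normalizer (B : Set G) ⊓ H with hE
  have hfix1 : ∀ e ∈ E, e ≠ 1 → ∀ x : G ⧸ H, e • x = x → x = o := fun e he he1 x hx =>
    fixedBy_free B hcc o (mem_inf.mp he).1 ((hstab e).mpr (mem_inf.mp he).2) he1 hfree hreg hx
  -- isolation
  have hiso : ∀ k : G, orderOf k = 2 → cen k ≤ H → (∀ x : G ⧸ H, k • x = x → x = o) →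
      cen k = H → False := by
    intro k hk _ hfix heq
    refine false_of_isolated hna hk fun a ha => ?_
    have h1 : (a * k * a⁻¹) • o = o := (hstab _).mpr (heq ▸ mem_cen.mpr ha.eq.symm)
    have h2 : k • (a⁻¹ • o) = a⁻¹ • o := by
      rw [mul_smul, mul_smul] at h1
      exact eq_inv_smul_iff.mpr h1
    have h3 : a ∈ H := inv_mem_iff.mp ((hstab a⁻¹).mp (hfix _ h2))
    rw [mul_inv_eq_iff_eq_mul]
    exact mem_cen.mp (heq ▸ h3 : a ∈ cen k)
  -- not two-transitive
  obtain ⟨x₁, hx₁, hux⟩ : ∃ x : G ⧸ H, x ≠ o ∧ u • x = x := by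
    by_contra hall
    push Not at hall
    exact hiso u hu le_rfl (fun x hx => by_contra fun h => hall x h hx) rfl
  have hnt : ∃ x y : G ⧸ H, x ≠ o ∧ y ≠ o ∧ ∀ h : G, h • o = o → h • x ≠ y := by
    by_contra hall
    push Not at hall
    have hall' : ∀ y : G ⧸ H, u • y = y := by
      intro y
      by_cases hy : y = o
      · rw [hy]; exact (hstab u).mpr (self_mem_cen u)
      obtain ⟨h, hh, rfl⟩ := hall x₁ y hx₁ hy
      rw [← mul_smul, ← mem_cen.mp ((hstab h).mp hh), mul_smul, hux]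
    let f := MulAction.toPermHom G (G ⧸ H)
    have hmem : u ∈ f.ker := f.mem_ker.mpr (Equiv.ext hall')
    rcases (MonoidHom.normal_ker f).eq_bot_or_eq_top with h | h
    · exact ne_one_of_orderOf Nat.prime_two hu (mem_bot.mp (h ▸ hmem))
    · refine hHtop ((eq_top_iff' _).mpr fun g => (hstab g).mp ?_)
      exact congrFun (congrArg DFunLike.coe (f.mem_ker.mp (h ▸ mem_top g))) o
  have horb := exists_normalizer_smul B habB hcc hlt o hreg hfree hnt
  -- a symmetric orbital
  obtain ⟨p, hp⟩ : ∃ p : G ⧸ H, u • p ≠ p := by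
    by_contra hall
    push Not at hall
    obtain ⟨x, y, hx, hy, hxy⟩ := hnt
    let f := MulAction.toPermHom G (G ⧸ H)
    rcases (MonoidHom.normal_ker f).eq_bot_or_eq_top with h | h
    · exact ne_one_of_orderOf Nat.prime_two hu (mem_bot.mp (h ▸ f.mem_ker.mpr (Equiv.ext hall)))
    · exact hHtop ((eq_top_iff' _).mpr fun g => (hstab g).mp
        (congrFun (congrArg DFunLike.coe (f.mem_ker.mp (h ▸ mem_top g))) o))
  obtain ⟨g₀, hg₀⟩ := MulAction.exists_smul_eq G p o
  set u' := g₀ * u * g₀⁻¹ with hu'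
  set x₀ := g₀ • u • p with hx₀
  have hu'o : u' • o = x₀ := by rw [hu', mul_smul, mul_smul, ← hg₀, inv_smul_smul]
  have hu'x : u' • x₀ = o := by
    rw [hu', hx₀, mul_smul, mul_smul, inv_smul_smul, ← mul_smul u u, ← pow_two, ← hu, pow_orderOf_eq_one,
      one_smul, hg₀]
  have hx₀o : x₀ ≠ o := fun h => hp ((smul_left_cancel_iff g₀).mp (h.trans hg₀.symm))
  set O := MulAction.orbit G (o, x₀) with hO
  have hoff : ∀ z : O, (z : (G ⧸ H) × (G ⧸ H)).1 ≠ (z : (G ⧸ H) × (G ⧸ H)).2 := by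
    rintro ⟨_, g, rfl⟩ h
    exact hx₀o ((smul_left_cancel_iff g).mp h).symm
  haveI : Fintype O := Fintype.ofFinite _
  have hcardO : Fintype.card O = csz v * Nat.card E := by
    rw [← Nat.card_eq_fintype_card, show csz v = Nat.card B from rfl, ← Nat.card_prod]
    symm
    refine Nat.card_eq_of_bijective
      (fun be : B × E => (⟨((be.1 : G) * (be.2 : G)) • (o, x₀), mem_orbit _ _⟩ : O)) ⟨?_, ?_⟩
    · rintro ⟨b, e⟩ ⟨b', e'⟩ h
      have h0 := congrArg Subtype.val h
      have he : (e : G) • o = o := (hstab _).mpr (mem_inf.mp e.2).2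
      have he' : (e' : G) • o = o := (hstab _).mpr (mem_inf.mp e'.2).2
      have h1 : ((b : G) * (e : G)) • o = ((b' : G) * (e' : G)) • o := congrArg Prod.fst h0
      have h2 : ((b : G) * (e : G)) • x₀ = ((b' : G) * (e' : G)) • x₀ := congrArg Prod.snd h0
      rw [mul_smul, mul_smul, he, he'] at h1
      have hbb : b = b' := Subtype.ext (inv_mul_eq_one.mp (hfree _ (mul_mem (inv_mem b.2) b'.2)
        (by rw [mul_smul, ← h1, inv_smul_smul])))
      subst hbb
      rw [mul_smul, mul_smul, smul_left_cancel_iff] at h2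
      have hee : ((e : G)⁻¹ * (e' : G)) = 1 := by
        by_contra hne
        exact hx₀o (hfix1 _ (mul_mem (inv_mem e.2) e'.2) hne x₀ (by rw [mul_smul, ← h2, inv_smul_smul]))
      rw [Subtype.ext (inv_mul_eq_one.mp hee) (a1 := e) (a2 := e')]
    · rintro ⟨_, g, rfl⟩
      obtain ⟨b, hb, h, hh, rfl⟩ := hfac g
      obtain ⟨e, he, heo, hex⟩ := horb h ((hstab h).mpr hh) x₀
      refine ⟨(⟨b, hb⟩, ⟨e, mem_inf.mpr ⟨he, (hstab e).mp heo⟩⟩), Subtype.ext (Prod.ext ?_ ?_)⟩
      · show (b * e) • o = (b * h) • o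
        rw [mul_smul, mul_smul, heo, (hstab h).mpr hh]
      · show (b * e) • x₀ = (b * h) • x₀
        rw [mul_smul, mul_smul, hex]
  have heven : 2 ∣ Nat.card E := by
    have hswap : ∀ z : O, ((z : (G ⧸ H) × (G ⧸ H)).2, (z : (G ⧸ H) × (G ⧸ H)).1) ∈ O := by
      rintro ⟨_, g, rfl⟩
      refine ⟨g * u', Prod.ext ?_ ?_⟩
      · show (g * u') • o = g • x₀
        rw [mul_smul, hu'o]
      · show (g * u') • x₀ = g • o
        rw [mul_smul, hu'x]
    let σ : Equiv.Perm O :=
      { toFun := fun z => ⟨_, hswap z⟩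
        invFun := fun z => ⟨_, hswap z⟩
        left_inv := fun z => rfl
        right_inv := fun z => rfl }
    have hne : ∀ z : O, σ z ≠ z := fun z h => hoff z (congrArg (fun w : O => w.1.2) h)
    have h := (SmallGroups.PSLTwo.sign_semiregular (σ := σ) (n := 2) (by norm_num) (by norm_num)
      (by rw [pow_two]; ext z <;> rfl) fun z _ j hj => by
        rcases Nat.even_or_odd j with ⟨i, hi⟩ | ⟨i, hi⟩
        · exact ⟨i, by omega⟩
        · exfalso
          have h2 : σ ^ 2 = 1 := by rw [pow_two]; ext z <;> rfl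
          rw [hi, pow_succ, pow_mul, h2, one_pow, one_mul] at hj
          exact hne z hj).1
    rw [show σ.support = Finset.univ from Finset.eq_univ_of_forall fun z =>
      Equiv.Perm.mem_support.mpr (hne z), Finset.card_univ, hcardO] at h
    exact (Nat.prime_two.dvd_mul.mp h).resolve_left hodd
  -- the involution in `E`
  obtain ⟨⟨k, hkE⟩, hk⟩ := exists_prime_orderOf_dvd_card' (G := E) 2 heven
  rw [Subgroup.orderOf_mk] at hk
  have hkfix : ∀ x : G ⧸ H, k • x = x → x = o := hfix1 k hkE (ne_one_of_orderOf Nat.prime_two hk)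
  have hkH : cen k ≤ H := by
    intro a ha
    refine (hstab a).mp (hkfix _ ?_)
    rw [← mul_smul, ← mem_cen.mp ha, mul_smul, (hstab k).mpr (mem_inf.mp hkE).2]
  rcases hinv k hk (mem_inf.mp hkE).2 with heq | hbot
  · exact hiso k hk hkH hkfix (eq_of_le_of_card_ge hkH heq.ge)
  have huniq : ∀ k' ∈ E, orderOf k' = 2 → k' = k := by
    intro k' hk'E hk'
    obtain ⟨b, hbB, hb1⟩ : ∃ b ∈ B, b ≠ 1 := by
      obtain ⟨b, _, hb⟩ := SetLike.exists_of_lt (bot_lt_iff_ne_bot.mpr (fun hbot' : B = ⊥ => by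
        obtain ⟨q, hq, Q, hqd, hQ⟩ := hsyl
        exact Q.ne_bot_of_dvd_card hqd (le_bot_iff.mp (hbot' ▸ hQ))))
      exact ⟨b, ‹b ∈ B›, fun e => hb (e ▸ one_mem _)⟩
    have hinvert : ∀ l ∈ E, orderOf l = 2 → l * b * l⁻¹ = b⁻¹ := by
      intro l hl hl2
      have hlb : l * b * l⁻¹ ∈ B := (mem_normalizer_iff.mp (mem_inf.mp hl).1 b).mp hbB
      have hll : l * l = 1 := by rw [← pow_two, ← hl2, pow_orderOf_eq_one]
      by_contra hne
      have hc1 : l * b * l⁻¹ * b ≠ 1 := fun h => hne (eq_inv_of_mul_eq_one_left h)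
      have hlc : l ∈ cen (l * b * l⁻¹ * b) := by
        rw [mem_cen]
        calc l * (l * b * l⁻¹ * b) = l * l * b * (l⁻¹ * b) := by group
          _ = b * (l⁻¹ * b) := by rw [hll, one_mul]
          _ = b * (l * b) := by rw [inv_eq_of_mul_eq_one_right hll]
          _ = b * (l * b * l⁻¹) * l := by group
          _ = l * b * l⁻¹ * b * l := by rw [hab b hbB _ hlb]
      rw [hcc _ (mul_mem hlb hbB) hc1] at hlc
      exact ne_one_of_orderOf Nat.prime_two hl2 (hdis l hlc (mem_inf.mp hl).2)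
    have h1 := hinvert k hkE hk
    have h2 := hinvert k' hk'E hk'
    have hc : k⁻¹ * k' ∈ cen b := by
      rw [mem_cen]
      calc k⁻¹ * k' * b = k⁻¹ * (k' * b * k'⁻¹) * k' := by group
        _ = k⁻¹ * (k * b * k⁻¹) * k' := by rw [h1, h2]
        _ = b * (k⁻¹ * k') := by group
    rw [hcc b hbB hb1] at hc
    exact (inv_mul_eq_one.mp (hdis _ hc (mul_mem (inv_mem (mem_inf.mp hkE).2) (mem_inf.mp hk'E).2))).symm
  obtain ⟨P⟩ : Nonempty (Sylow 2 E) := inferInstance
  have hcenP : ∀ a : (P : Subgroup E), a ≠ 1 → cen ((a : E) : G) = cen k := by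
    intro a ha1
    have ha1' : ((a : E) : G) ≠ 1 := fun h => ha1 (Subtype.ext (Subtype.ext h))
    obtain ⟨r, hr, y, hy, hyo⟩ := exists_prime_part ha1'
    have hrd : r ∣ Nat.card (P : Subgroup E) := by
      refine dvd_trans (hyo ▸ orderOf_dvd_of_mem_zpowers hy) ?_
      rw [Subgroup.orderOf_coe, Subgroup.orderOf_coe]
      exact orderOf_dvd_natCard a
    obtain ⟨n, hn⟩ := IsPGroup.iff_card.mp P.isPGroup'
    have hr2 : r = 2 := (Nat.prime_dvd_prime_iff_eq hr Nat.prime_two).mp (hr.dvd_of_dvd_pow (hn ▸ hrd))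
    subst hr2
    have hyE : y ∈ E := zpowers_le.mpr (a : E).2 hy
    exact hbot _ ha1' (by rw [← huniq y hyE hyo]; exact cen_le_of_zpowers hy)
  haveI : IsMulCommutative (P : Subgroup E) := ⟨⟨fun a b => by
    by_cases ha : a = 1
    · rw [ha, one_mul, mul_one]
    by_cases hb : b = 1
    · rw [hb, one_mul, mul_one]
    have h : ((b : E) : G) ∈ cen ((a : E) : G) := by
      rw [hcenP a ha, ← hcenP b hb]
      exact self_mem_cen _
    exact Subtype.ext (Subtype.ext (mem_cen.mp h).symm)⟩⟩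
  haveI : IsCyclic (⊤ : Subgroup (P : Subgroup E)) := by
    haveI : IsMulCommutative (⊤ : Subgroup (P : Subgroup E)) :=
      ⟨⟨fun a b => Subtype.ext (mul_comm' (a : (P : Subgroup E)) b)⟩⟩
    refine PUnique.isCyclic_of_isMulCommutative (p := 2) P.isPGroup' (fun K₁ K₂ h1 h2 => ?_) ⊤
    have key : ∀ K : Subgroup (P : Subgroup E), Nat.card K = 2 → ∀ x : (P : Subgroup E),
        x ∈ K ↔ x = 1 ∨ (((x : E) : G)) = k := by
      intro K hK x
      obtain ⟨⟨c, hc⟩, hco⟩ := exists_prime_orderOf_dvd_card' (G := K) 2 (by rw [hK])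
      rw [Subgroup.orderOf_mk] at hco
      have hck : (((c : E) : G)) = k := huniq _ (c : E).2 (by
        rw [Subgroup.orderOf_coe, Subgroup.orderOf_coe]; exact hco)
      constructor
      · intro hx
        rcases eq_or_ne x 1 with h | h
        · exact Or.inl h
        · refine Or.inr (huniq _ (x : E).2 ?_)
          rw [Subgroup.orderOf_coe, Subgroup.orderOf_coe]
          refine ((Nat.prime_two.eq_one_or_self_of_dvd _ ?_).resolve_left fun e =>
            h (orderOf_eq_one_iff.mp e))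
          rw [← Subgroup.orderOf_mk x hx]
          have h' := orderOf_dvd_natCard (⟨x, hx⟩ : K)
          rwa [hK] at h'
      · rintro (rfl | hx)
        · exact one_mem K
        · rwa [show x = c from Subtype.ext (Subtype.ext (hx.trans hck.symm))]
    exact SetLike.ext fun x => by rw [key K₁ h1, key K₂ h2]
  obtain ⟨⟨a, hatop⟩, ha⟩ := IsCyclic.exists_ofOrder_eq_natCard (α := (⊤ : Subgroup (P : Subgroup E)))
  rw [Subgroup.orderOf_mk, Subgroup.card_top] at ha
  set g : G := ((a : E) : G) with hg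
  have hgord : orderOf g = Nat.card (P : Subgroup E) := by
    rw [hg, Subgroup.orderOf_coe, Subgroup.orderOf_coe, ha]
  have hPeven : Even (Nat.card (P : Subgroup E)) :=
    even_iff_two_dvd.mpr (P.dvd_card_of_dvd_card heven)
  let σ : Equiv.Perm O := MulAction.toPerm g
  have hpow : ∀ j : ℕ, ∀ z : O, (σ ^ j) z = z → orderOf g ∣ j := by
    intro j z hz
    by_contra hj
    have h1 : g ^ j ≠ 1 := fun h => hj (orderOf_dvd_of_pow_eq_one h)
    have hz' : g ^ j • z = z := by
      rw [show σ ^ j = MulAction.toPerm (g ^ j) from ((MulAction.toPermHom G O).map_pow g j).symm] at hz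
      exact hz
    have hmem : g ^ j ∈ E := pow_mem (a : E).2 j
    have h2 := congrArg Subtype.val hz'
    exact hoff z ((hfix1 _ hmem h1 _ (congrArg Prod.fst h2)).trans
      (hfix1 _ hmem h1 _ (congrArg Prod.snd h2)).symm)
  have hg1 : orderOf g ≠ 1 := by
    rw [hgord]
    intro h
    rw [h] at hPeven
    exact absurd hPeven (by norm_num)
  obtain ⟨hdvd, hsign⟩ := SmallGroups.PSLTwo.sign_semiregular (σ := σ) (n := orderOf g) (orderOf_pos g)
    (hgord ▸ hPeven) (by
      show (MulAction.toPermHom G O g) ^ orderOf g = 1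
      rw [← map_pow, pow_orderOf_eq_one, map_one]) fun z _ j => hpow j z
  have hsupp : σ.support = Finset.univ := Finset.eq_univ_of_forall fun z =>
    Equiv.Perm.mem_support.mpr fun h => hg1 (Nat.dvd_one.mp (hpow 1 z (by rwa [pow_one])))
  rw [hsupp, Finset.card_univ, hcardO, sign_eq_one hna, hgord, ← (P : Subgroup E).card_mul_index,
    mul_left_comm, Nat.mul_div_cancel_left _ Nat.card_pos] at hsign
  have hoddn : Odd (csz v * (P : Subgroup E).index) :=
    (Nat.not_even_iff_odd.mp (fun h => hodd h.two_dvd)).mul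
      (Nat.not_even_iff_odd.mp (fun h => P.not_dvd_index h.two_dvd))
  rw [hoddn.neg_one_pow] at hsign
  exact absurd hsign (by decide)

end Cfsg.Agent.Lib.ThreeCentralizers
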