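import Cfsg.Agent.Lib.ThreeCentralizers.Point

/-!
# Centralizers with a proper inclusion
-/

set_option autoImplicit false
set_option linter.style.haveILetI false

namespace Cfsg.Agent.Lib.ThreeCentralizers

open Subgroup Cfsg.Agent.Lib

universe u

variable {G : Type u} [Group G] [Finite G] [IsSimpleGroup G]

/-- When every centralizer order divides one of them, the group is abelian. -/
theorem no_universal (hna : ¬ IsMulCommutative G) {x : G} (hx : x ≠ 1)
    (h : ∀ y : G, y ≠ 1 → csz y ∣ csz x) : False := by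
  refine cen_ne_top hna hx (eq_top_of_not_dvd_index fun p hp hd => ?_)
  haveI := Fact.mk hp
  obtain ⟨P⟩ : Nonempty (Sylow p G) := inferInstance
  obtain ⟨z, -, hz, hPz⟩ := exists_central_of_sylow P (hd.trans (index_dvd_card _))
  refine not_dvd_index_of_sylow_le P hPz (hd.trans ?_)
  obtain ⟨k, hk⟩ := h z (ne_one_of_orderOf hp hz)
  have h1 := (cen x).card_mul_index
  rw [← (cen z).card_mul_index, show Nat.card (cen x) = csz z * k from hk, mul_assoc] at h1
  exact ⟨k, by rw [← Nat.eq_of_mul_eq_mul_left (csz_pos z) h1, mul_comm]⟩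

/-- Three centralizer orders, two of them from nested centralizers. -/
structure Nested (G : Type u) [Group G] [Finite G] where
  /-- an element with the small centralizer -/
  x : G
  /-- an element with the large centralizer -/
  u : G
  /-- an element of the third kind -/
  v : G
  x_ne : x ≠ 1
  u_ne : u ≠ 1
  v_ne : v ≠ 1
  lt : cen x < cen u
  v_ne_x : csz v ≠ csz x
  v_ne_u : csz v ≠ csz u
  vals : ∀ w : G, w ≠ 1 → csz w = csz x ∨ csz w = csz u ∨ csz w = csz v

namespace Nested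

variable (D : Nested G)

omit [IsSimpleGroup G] in
theorem c1_dvd : csz D.x ∣ csz D.u := card_dvd_of_le D.lt.le

omit [IsSimpleGroup G] in
theorem c1_lt : csz D.x < csz D.u := by
  refine lt_of_le_of_ne (Nat.le_of_dvd (csz_pos _) D.c1_dvd) fun h => D.lt.ne ?_
  exact cen_eq_of_le D.lt.le h

omit [IsSimpleGroup G] in
theorem index_u_dvd : (cen D.u).index ∣ (cen D.x).index := index_dvd_of_le D.lt.le

theorem c2_ndvd_c3 (hna : ¬ IsMulCommutative G) : ¬ csz D.u ∣ csz D.v := fun h =>
  no_universal hna D.v_ne fun y hy => by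
    rcases D.vals y hy with e | e | e <;> rw [e]
    · exact D.c1_dvd.trans h
    · exact h

theorem c3_ndvd_c2 (hna : ¬ IsMulCommutative G) : ¬ csz D.v ∣ csz D.u := fun h =>
  no_universal hna D.u_ne fun y hy => by
    rcases D.vals y hy with e | e | e <;> rw [e]
    · exact D.c1_dvd
    · exact h

theorem bottom_one (hna : ¬ IsMulCommutative G) {w : G} (hw : csz w = csz D.x) : Bottom w := by
  intro y hy hle
  refine cen_eq_of_le hle ?_
  have hd : csz y ∣ csz w := card_dvd_of_le hle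
  rcases D.vals y hy with e | e | e
  · rw [e, hw]
  · rw [e, hw] at hd
    exact absurd (Nat.le_of_dvd (csz_pos _) hd) (not_le.mpr D.c1_lt)
  · rw [e, hw] at hd
    exact absurd (hd.trans D.c1_dvd) (D.c3_ndvd_c2 hna)

theorem top_two (hna : ¬ IsMulCommutative G) {w y : G} (hw : csz w = csz D.u) (hy : y ≠ 1)
    (hle : cen w ≤ cen y) : cen y = cen w := by
  refine (cen_eq_of_le hle ?_).symm
  have hd : csz w ∣ csz y := card_dvd_of_le hle
  rcases D.vals y hy with e | e | e
  · rw [e, hw] at hd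
    exact absurd (Nat.le_of_dvd (csz_pos _) hd) (not_le.mpr D.c1_lt)
  · rw [e, hw]
  · rw [e, hw] at hd
    exact absurd hd (D.c2_ndvd_c3 hna)

theorem top_three (hna : ¬ IsMulCommutative G) {w y : G} (hw : csz w = csz D.v) (hy : y ≠ 1)
    (hle : cen w ≤ cen y) : cen y = cen w := by
  refine (cen_eq_of_le hle ?_).symm
  have hd : csz w ∣ csz y := card_dvd_of_le hle
  rcases D.vals y hy with e | e | e
  · rw [e, hw] at hd
    exact absurd (hd.trans D.c1_dvd) (D.c3_ndvd_c2 hna)
  · rw [e, hw] at hd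
    exact absurd hd (D.c3_ndvd_c2 hna)
  · rw [e, hw]

/-- A prime power part with the same centralizer, for the two large kinds. -/
theorem part_two (hna : ¬ IsMulCommutative G) {w : G} (hw1 : w ≠ 1) (hw : csz w = csz D.u) :
    ∃ r : ℕ, r.Prime ∧ ∃ y ∈ zpowers w, orderOf y = r ∧ cen y = cen w := by
  obtain ⟨r, hr, y, hy, hyo⟩ := exists_prime_part hw1
  exact ⟨r, hr, y, hy, hyo, D.top_two hna hw (ne_one_of_orderOf hr hyo) (cen_le_of_zpowers hy)⟩

theorem part_three (hna : ¬ IsMulCommutative G) {w : G} (hw1 : w ≠ 1) (hw : csz w = csz D.v) :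
    ∃ r : ℕ, r.Prime ∧ ∃ y ∈ zpowers w, orderOf y = r ∧ cen y = cen w := by
  obtain ⟨r, hr, y, hy, hyo⟩ := exists_prime_part hw1
  exact ⟨r, hr, y, hy, hyo, D.top_three hna hw (ne_one_of_orderOf hr hyo) (cen_le_of_zpowers hy)⟩

omit [IsSimpleGroup G] in
/-- The indices of the two large kinds are coprime. -/
theorem coprime_index : (cen D.u).index.Coprime (cen D.v).index := by
  refine Nat.coprime_of_dvd fun p hp hu hv => ?_
  haveI := Fact.mk hp
  obtain ⟨P⟩ : Nonempty (Sylow p G) := inferInstance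
  obtain ⟨z, -, hz, hPz⟩ := exists_central_of_sylow P (hu.trans (index_dvd_card _))
  have hn := not_dvd_index_of_sylow_le P hPz
  rcases D.vals z (ne_one_of_orderOf hp hz) with e | e | e <;> rw [index_eq_of_csz_eq e] at hn
  · exact hn (hu.trans D.index_u_dvd)
  · exact hn hu
  · exact hn hv

theorem not_commute (hna : ¬ IsMulCommutative G) {a b : G} (ha1 : a ≠ 1) (hb1 : b ≠ 1)
    (ha : csz a = csz D.u) (hb : csz b = csz D.v) : b ∉ cen a := by
  intro h
  refine not_commute_of_factor ha1 (cen_ne_top hna hb1) (fun g => ?_) (mem_cen.mp h).symm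
  exact exists_mul_of_coprime (by
    rw [index_eq_of_csz_eq ha, index_eq_of_csz_eq hb]
    exact D.coprime_index.symm) g

omit [IsSimpleGroup G] in
/-- A conjugate of `u` centralizes a given Sylow subgroup when the prime is prime to its index. -/
theorem exists_conj_centralizing {p : ℕ} [Fact p.Prime] (hp : ¬ p ∣ (cen D.u).index)
    (P : Sylow p G) : ∃ u' : G, u' ≠ 1 ∧ csz u' = csz D.u ∧ (P : Subgroup G) ≤ cen u' := by
  obtain ⟨Q, hQ⟩ := exists_sylow_le hp
  obtain ⟨g, hg⟩ := MulAction.exists_smul_eq G Q P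
  refine ⟨g * D.u * g⁻¹, fun h => D.u_ne (conj_eq_one_iff.mp h), csz_conj g D.u, fun y hy => ?_⟩
  rw [← hg, Sylow.coe_subgroup_smul] at hy
  obtain ⟨z, hz, rfl⟩ := hy
  simp only [MulDistribMulAction.toMonoidEnd_apply, MulDistribMulAction.toMonoidHom_apply,
    MulAut.smul_def, MulAut.conj_apply]
  have h := mem_cen.mp (hQ hz)
  rw [mem_cen]
  calc g * z * g⁻¹ * (g * D.u * g⁻¹) = g * (z * D.u) * g⁻¹ := by group
    _ = g * (D.u * z) * g⁻¹ := by rw [h]
    _ = g * D.u * g⁻¹ * (g * z * g⁻¹) := by group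

theorem hall_two (hna : ¬ IsMulCommutative G) {q : ℕ} (hq : q.Prime) (h2 : q ∣ csz D.u) :
    ¬ q ∣ (cen D.u).index := by
  intro hd
  haveI := Fact.mk hq
  -- central elements of order `q` are of the third kind
  have hcentral : ∀ w : G, El q w → ∃ z : G, z ≠ 1 ∧ csz z = csz D.v ∧ z ∈ cen w := by
    intro w hw
    obtain ⟨Q, hwQ⟩ := exists_sylow_mem hw
    obtain ⟨z, hzQ, hz, hQz⟩ := exists_central_of_sylow Q (hd.trans (index_dvd_card _))
    refine ⟨z, ne_one_of_orderOf hq hz, ?_, mem_cen_comm.mp (hQz hwQ)⟩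
    have hn := not_dvd_index_of_sylow_le Q hQz
    rcases D.vals z (ne_one_of_orderOf hq hz) with e | e | e
    · rw [index_eq_of_csz_eq e] at hn; exact absurd (hd.trans D.index_u_dvd) hn
    · rw [index_eq_of_csz_eq e] at hn; exact absurd hd hn
    · exact e
  obtain ⟨w, hwu, hwo⟩ := exists_mem_of_dvd hq h2
  have hw1 := ne_one_of_orderOf hq hwo
  obtain ⟨r, hr, y, -, hyo, hye⟩ := D.part_two hna D.u_ne rfl
  have hy1 := ne_one_of_orderOf hr hyo
  have hy2 : csz y = csz D.u := by unfold csz; rw [hye]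
  obtain ⟨z, hz1, hz3, hzw⟩ := hcentral w (.of_orderOf hwo)
  rcases D.vals w hw1 with e | e | e
  · rcases eq_or_ne r q with rfl | hne
    · obtain ⟨z', hz'1, hz'3, hz'y⟩ := hcentral y (.of_orderOf hyo)
      exact D.not_commute hna hy1 hz'1 hy2 hz'3 hz'y
    · have hle := (D.bottom_one hna e).cen_le hq hr hne.symm (.of_orderOf hwo) hw1 (.of_orderOf hyo)
        (mem_cen_comm.mp (hye.symm ▸ hwu : w ∈ cen y))
      exact D.not_commute hna hy1 hz1 hy2 hz3 (hle hzw)
  · exact D.not_commute hna hw1 hz1 e hz3 hzw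
  · exact D.not_commute hna D.u_ne hw1 rfl e hwu

omit [IsSimpleGroup G] in
theorem dvd_or_dvd {p : ℕ} (hp : p.Prime) (h : p ∣ Nat.card G) :
    p ∣ csz D.u ∨ p ∣ (cen D.u).index :=
  hp.dvd_mul.mp ((cen D.u).card_mul_index.symm ▸ h)

theorem three_of_dvd_index (hna : ¬ IsMulCommutative G) {q : ℕ} (hq : q.Prime)
    (h : q ∣ (cen D.u).index) {w : G} (hw : orderOf w = q) : csz w = csz D.v := by
  have hd : q ∣ csz w := hw ▸ orderOf_dvd_csz w
  rcases D.vals w (ne_one_of_orderOf hq hw) with e | e | e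
  · exact absurd h (D.hall_two hna hq ((e ▸ hd).trans D.c1_dvd))
  · exact absurd h (D.hall_two hna hq (e ▸ hd))
  · exact e

/-- Central elements for primes of the large centralizer are not of the third kind. -/
theorem central_ne_three (hna : ¬ IsMulCommutative G) {p : ℕ} [Fact p.Prime]
    (hp : ¬ p ∣ (cen D.u).index) (P : Sylow p G) {z : G} (hz : z ∈ (P : Subgroup G)) (hz1 : z ≠ 1) :
    csz z ≠ csz D.v := by
  intro h
  obtain ⟨u', hu'1, hu'2, hP⟩ := D.exists_conj_centralizing hp P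
  exact D.not_commute hna hu'1 hz1 hu'2 h (hP hz)

theorem ne_three (hna : ¬ IsMulCommutative G) {p : ℕ} (hp : p.Prime) (h : ¬ p ∣ (cen D.u).index)
    {w : G} (hw : orderOf w = p) : csz w ≠ csz D.v := by
  intro hw3
  haveI := Fact.mk hp
  have hw1 := ne_one_of_orderOf hp hw
  obtain ⟨P, hwP⟩ := exists_sylow_mem (p := p) (x := w) (.of_orderOf hw)
  exact D.central_ne_three hna h P hwP hw1 hw3

theorem index_of_three (hna : ¬ IsMulCommutative G) {r : ℕ} (hr : r.Prime) (h : r ∣ csz D.v) :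
    r ∣ (cen D.u).index := by
  by_contra hn
  haveI := Fact.mk hr
  obtain ⟨w, hwv, hwo⟩ := exists_mem_of_dvd hr h
  have hw1 := ne_one_of_orderOf hr hwo
  rcases D.vals w hw1 with e | e | e
  · obtain ⟨R, hwR⟩ := exists_sylow_mem (p := r) (x := w) (.of_orderOf hwo)
    obtain ⟨z, hzR, hz, hRz⟩ := exists_central_of_sylow R (hwo ▸ orderOf_dvd_natCard w)
    have hz1 := ne_one_of_orderOf hr hz
    obtain ⟨r', hr', y, -, hyo, hye⟩ := D.part_three hna D.v_ne rfl
    have hy1 := ne_one_of_orderOf hr' hyo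
    have hy3 : csz y = csz D.v := by unfold csz; rw [hye]
    have hne : r ≠ r' := by
      rintro rfl
      exact D.ne_three hna hr hn hyo hy3
    have hle := (D.bottom_one hna e).cen_le hr hr' hne (.of_orderOf hwo) hw1 (.of_orderOf hyo)
      (mem_cen_comm.mp (hye.symm ▸ hwv : w ∈ cen y))
    have hzy : z ∈ cen y := hle (mem_cen_comm.mp (hRz hwR))
    rcases D.vals z hz1 with e' | e' | e'
    · obtain ⟨u', hu'1, hu'2, hR⟩ := D.exists_conj_centralizing hn R
      have hle' := (D.bottom_one hna e').cen_le hr hr' hne (.of_orderOf hz) hz1 (.of_orderOf hyo)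
        (mem_cen_comm.mp hzy)
      exact D.not_commute hna hu'1 hy1 hu'2 hy3 (mem_cen_comm.mp (hle' (mem_cen_comm.mp (hR hzR))))
    · exact D.not_commute hna hz1 hy1 e' hy3 (mem_cen_comm.mp hzy)
    · exact D.ne_three hna hr hn hz e'
  · exact D.not_commute hna hw1 D.v_ne e rfl (mem_cen_comm.mp hwv)
  · exact D.ne_three hna hr hn hwo e

theorem coprime_orders (hna : ¬ IsMulCommutative G) : (csz D.v).Coprime (csz D.u) :=
  Nat.coprime_of_dvd fun _ hp hv hu => D.hall_two hna hp hu (D.index_of_three hna hp hv)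

theorem three_of_dvd (hna : ¬ IsMulCommutative G) {w : G} (hw1 : w ≠ 1)
    (hw : orderOf w ∣ csz D.v) : csz w = csz D.v := by
  obtain ⟨r, hr, hd⟩ := Nat.exists_prime_and_dvd (fun h => hw1 (orderOf_eq_one_iff.mp h))
  have h3 := hd.trans hw
  have hd' : r ∣ csz w := hd.trans (orderOf_dvd_csz w)
  have key : ¬ r ∣ csz D.u := fun h => hr.ne_one
    (Nat.dvd_one.mp (D.coprime_orders hna ▸ Nat.dvd_gcd h3 h))
  rcases D.vals w hw1 with e | e | e
  · exact absurd ((e ▸ hd').trans D.c1_dvd) key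
  · exact absurd (e ▸ hd') key
  · exact e

theorem bottom_three (hna : ¬ IsMulCommutative G) {w : G} (hw : csz w = csz D.v) : Bottom w := by
  intro y hy hle
  have hd : csz y ∣ csz w := card_dvd_of_le hle
  refine cen_eq_of_le hle ?_
  rw [hw, D.three_of_dvd hna hy ((orderOf_dvd_csz y).trans (hw ▸ hd))]

/-- Centralizers of the third kind are abelian. -/
theorem comm_three (hna : ¬ IsMulCommutative G) {w : G} (hw1 : w ≠ 1) (hw : csz w = csz D.v) :
    Comm (cen w) := by
  obtain ⟨r, hr, y, -, hyo, hye⟩ := D.part_three hna hw1 hw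
  have hy1 := ne_one_of_orderOf hr hyo
  have hy3 : csz y = csz D.v := by unfold csz; rw [hye]; exact hw
  obtain ⟨q, hq, hqr, hqd⟩ := exists_prime_index hna D.u_ne hr
  haveI := Fact.mk hq
  obtain ⟨Q⟩ : Nonempty (Sylow q G) := inferInstance
  obtain ⟨z, -, hz, -⟩ := exists_central_of_sylow Q (hqd.trans (index_dvd_card _))
  have hz3 := D.three_of_dvd_index hna hq hqd hz
  obtain ⟨b, hby, hbo⟩ := exists_mem_of_dvd (x := y) hq (by
    rw [hy3, ← hz3, ← hz]; exact orderOf_dvd_csz z)
  have hb1 := ne_one_of_orderOf hq hbo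
  have he : cen b = cen y := D.top_three hna hy3 hb1
    ((D.bottom_three hna hy3).cen_le hr hq hqr.symm (.of_orderOf hyo) hy1 (.of_orderOf hbo) hby)
  exact hye ▸ comm_of_equal hr hq hqr.symm (D.bottom_three hna hy3) (.of_orderOf hyo) hy1
    (.of_orderOf hbo) hb1 he

theorem cen_three (hna : ¬ IsMulCommutative G) {b : G} (hb : b ∈ cen D.v) (hb1 : b ≠ 1) :
    cen b = cen D.v :=
  (cen_eq_of_le (fun a ha => mem_cen.mpr (D.comm_three hna D.v_ne rfl a ha b hb))
    (D.three_of_dvd hna hb1 (orderOf_dvd_of_mem hb)).symm).symm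

include D in
/-- Centralizers of involutions are abelian. -/
theorem comm_involution (hna : ¬ IsMulCommutative G) (t : G) (ht : orderOf t = 2) :
    Comm (cen t) := by
  haveI : Fact (Nat.Prime 2) := ⟨Nat.prime_two⟩
  have h2csz : ∀ s : G, orderOf s = 2 → 2 ∣ csz s := fun s hs => hs ▸ orderOf_dvd_csz s
  -- no involution of the large kind
  have hno : ∀ s : G, orderOf s = 2 → csz s ≠ csz D.u := by
    intro s hs e
    have h2 : 2 ∣ csz D.u := e ▸ h2csz s hs
    have hco := D.coprime_orders hna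
    have hodd : ¬ 2 ∣ csz D.v := fun h => absurd (hco ▸ Nat.dvd_gcd h h2) (by norm_num)
    obtain ⟨q, hq, hqd⟩ := Nat.exists_prime_and_dvd (fun h : csz D.v = 1 => D.v_ne
      (orderOf_eq_one_iff.mp (Nat.dvd_one.mp (h ▸ orderOf_dvd_csz D.v))))
    haveI := Fact.mk hq
    have hqu := D.index_of_three hna hq hqd
    have hqG : q ∣ Nat.card G := hqu.trans (index_dvd_card _)
    obtain ⟨Q, hQ⟩ := exists_sylow_le (p := q) (K := cen D.v) (by
      obtain ⟨Q⟩ : Nonempty (Sylow q G) := inferInstance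
      obtain ⟨z, -, hz, hQz⟩ := exists_central_of_sylow Q hqG
      rw [← index_eq_of_csz_eq (D.three_of_dvd_index hna hq hqu hz)]
      exact not_dvd_index_of_sylow_le Q hQz)
    refine point_false hna s D.v hs (D.comm_three hna D.v_ne rfl)
      (fun b hb hb1 => D.cen_three hna hb hb1) (fun g => ?_) ?_ hodd ⟨q, Fact.mk hq, Q, hqG, hQ⟩
      fun k hk _ => ?_
    · exact exists_mul_of_coprime (by
        rw [index_eq_of_csz_eq e]; exact D.coprime_index.symm) g
    · refine (disjoint_of_coprime_natCard ?_).eq_bot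
      show (csz D.v).Coprime (csz s)
      rw [e]
      exact hco
    · rcases D.vals k (ne_one_of_orderOf Nat.prime_two hk) with e' | e' | e'
      · exact Or.inr (D.bottom_one hna e')
      · exact Or.inl (e'.trans e.symm)
      · exact absurd (e' ▸ h2csz k hk) hodd
  have ht1 := ne_one_of_orderOf Nat.prime_two ht
  rcases D.vals t ht1 with e | e | e
  swap
  · exact absurd e (hno t ht)
  swap
  · exact D.comm_three hna ht1 e
  have hone : ∀ s : G, orderOf s = 2 → csz s = csz D.x := by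
    intro s hs
    rcases D.vals s (ne_one_of_orderOf Nat.prime_two hs) with e' | e' | e'
    · exact e'
    · exact absurd e' (hno s hs)
    · exfalso
      exact absurd (D.coprime_orders hna ▸ Nat.dvd_gcd (e' ▸ h2csz s hs)
        ((e ▸ h2csz t ht).trans D.c1_dvd)) (by norm_num)
  have hel : ∀ a : G, El 2 a → a ≠ 1 → csz a = csz D.x := by
    intro a ha ha1
    obtain ⟨r, hr, y, hy, hyo⟩ := exists_prime_part ha1
    obtain ⟨k, hk⟩ := ha
    have hr2 : r = 2 := (Nat.prime_dvd_prime_iff_eq hr Nat.prime_two).mp (hr.dvd_of_dvd_pow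
      (hk ▸ hyo ▸ orderOf_dvd_of_mem_zpowers hy))
    subst hr2
    have h := D.bottom_one hna (hone y hyo) a ha1 (cen_le_of_zpowers hy)
    show Nat.card (cen a) = _
    rw [h]
    exact hone y hyo
  have hsyl : ¬ 2 ∣ (cen D.x).index := by
    obtain ⟨S⟩ : Nonempty (Sylow 2 G) := inferInstance
    obtain ⟨z, -, hz, hSz⟩ := exists_central_of_sylow S (ht ▸ orderOf_dvd_natCard t)
    rw [← index_eq_of_csz_eq (hone z hz)]
    exact not_dvd_index_of_sylow_le S hSz
  have hS := sylow_comm (fun a ha ha1 => exists_sylow_le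
    (by rw [index_eq_of_csz_eq (hel a ha ha1)]; exact hsyl))
    (fun a b ha hb ha1 hb1 hle => cen_eq_of_le hle ((hel a ha ha1).trans (hel b hb hb1).symm))
  have hcent : ∀ q : ℕ, q.Prime → q ≠ 2 → ∀ a ∈ cen t, El q a → ∀ b ∈ cen t, a * b = b * a :=
    fun q hq hq2 a ha hael b hb => (mem_cen.mp (((D.bottom_one hna e).cen_le Nat.prime_two hq
      hq2.symm (.of_orderOf ht) ht1 hael ha) hb)).symm
  refine comm_of_parts (cen t) (fun p hp P a ha b hb => ?_) (fun p q hp hq hpq a ha hap b hb hbq => ?_)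
  · haveI := Fact.mk hp
    rcases eq_or_ne p 2 with rfl | hp2
    · obtain ⟨S, hS'⟩ := (P.isPGroup'.map (cen t).subtype).exists_le_sylow
      exact Subtype.ext (hS S a (hS' ⟨a, ha, rfl⟩) b (hS' ⟨b, hb, rfl⟩))
    · obtain ⟨k, hk⟩ := el_of_mem_isPGroup P.isPGroup' ha
      exact Subtype.ext (hcent p hp hp2 a a.2 ⟨k, by rwa [Subgroup.orderOf_coe]⟩ b b.2)
  · rcases eq_or_ne p 2 with rfl | hp2
    · exact (hcent q hq hpq.symm b hb hbq a ha).symm
    · exact hcent p hp hp2 a ha hap b hb

end Nested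

/-- **Three centralizer orders**: centralizers of involutions are abelian. -/
theorem comm_of_three (hna : ¬ IsMulCommutative G)
    (hle3 : ∀ x y z w : G, x ≠ 1 → y ≠ 1 → z ≠ 1 → w ≠ 1 → csz x ≠ csz y → csz z ≠ csz x →
      csz z ≠ csz y → csz w ≠ csz x → csz w ≠ csz y → csz w = csz z)
    (t : G) (ht : orderOf t = 2) : Comm (cen t) := by
  by_cases hfree : ∀ x y : G, x ≠ 1 → y ≠ 1 → cen x ≤ cen y → cen x = cen y
  · exact comm_of_free hna hfree hle3 t ht
  push Not at hfree
  obtain ⟨x, y, hx, hy, hle, hne⟩ := hfree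
  have hdvd : csz x ∣ csz y := card_dvd_of_le hle
  have hxy : csz x ≠ csz y := fun h => hne (cen_eq_of_le hle h)
  obtain ⟨v, hv, hvx, hvy⟩ : ∃ v : G, v ≠ 1 ∧ csz v ≠ csz x ∧ csz v ≠ csz y := by
    by_contra hall
    push Not at hall
    refine no_universal hna hy fun w hw => ?_
    rcases eq_or_ne (csz w) (csz x) with h | h
    · rw [h]; exact hdvd
    · rw [hall w hw h]
  exact Nested.comm_involution
    ⟨x, y, v, hx, hy, hv, lt_of_le_of_ne hle hne, hvx, hvy, fun w hw => by
      by_cases h1 : csz w = csz x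
      · exact Or.inl h1
      by_cases h2 : csz w = csz y
      · exact Or.inr (Or.inl h2)
      exact Or.inr (Or.inr (hle3 x y v w hx hy hv hw hxy hvx hvy h1 h2))⟩ hna t ht

end Cfsg.Agent.Lib.ThreeCentralizers
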